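import Cfsg.Agent.H312.Setup
import Cfsg.Agent.S1773
import Cfsg.Agent.S1726
import Cfsg.Agent.OddHalf.Small.G23
import Cfsg.Agent.OddHalf.Small.Transport

/-!
# The case `L = L₂(2^a)`, `a ≥ 3`: contradiction
-/

set_option autoImplicit false
set_option linter.unusedSectionVars false

universe u v

open Cfsg Subgroup
open Cfsg.Agent.Intrinsic.Basic Cfsg.Agent.GH.Defs Cfsg.Agent.GH.Comp
open Cfsg.Agent.GH.L2Frame (fix mem_fix)
open Cfsg.Agent.Walter.SylowIn Cfsg.Agent.Lib
open Cfsg.Agent.GH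
open scoped commutatorElement

namespace Cfsg.Agent.H312.EvenCase

variable {G : Type u} [Group G] [Finite G]

/-- The situation. -/
structure Sit (t : G) (K : Subgroup G) : Prop where
  simple : IsSimpleGroup G
  nc : ¬ ∀ a b : G, a * b = b * a
  ht : orderOf t = 2
  comp : IsComp (centralizer ({t} : Set G)) K
  norm : centralizer ({t} : Set G) ≤ normalizer (K : Set G)
  q : ∀ T : Subgroup G, SylIn 2 T (centralizer ({t} : Set G)) → ∀ q ∈ T ⊓ fix K, q = 1 ∨ q = t
  sm : IsSimpleGroup (Bar K)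
  snc : ¬ ∀ a b : Bar K, a * b = b * a

variable {t : G} {K : Subgroup G}

theorem oddCore_eq_bot (h : Sit t K) : oddCore G = ⊥ := by
  have := h.simple
  rcases (pPrimeCore_normal 2 G).eq_bot_or_eq_top with h1 | h1
  · exact h1
  · exfalso
    have hc : (Nat.card (oddCore G)).Coprime 2 := Lib.Cores.pPrimeCore_coprime (G := G) 2
    have h2 : oddCore G = ⊤ := h1
    rw [h2, Subgroup.card_top] at hc
    have h3 : 2 ∣ Nat.card G := by rw [← h.ht]; exact orderOf_dvd_natCard t
    exact absurd (Nat.Coprime.symm hc) (by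
      rw [Nat.prime_two.coprime_iff_not_dvd]; exact fun h => h h3)

theorem sq (h : Sit t K) : t * t = 1 := by rw [← pow_two, ← h.ht, pow_orderOf_eq_one]

theorem ne_one (h : Sit t K) : t ≠ 1 := by
  intro h1
  have h2 := h.ht
  rw [h1, orderOf_one] at h2
  norm_num at h2

/-- `O(K)` is central in `K`. -/
theorem core_central (h : Sit t K) : ∀ o ∈ core K, ∀ k ∈ K, o * k = k * o := by
  intro o ho k hk
  have hB := Cfsg.Agent.S1726.result (X := G) t h.ht
  rw [oddCore_eq_bot h] at hB
  have hkC : k ∈ centralizer ({t} : Set G) := h.comp.le hk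
  have hoC : o ∈ centralizer ({t} : Set G) := h.comp.le (core_le K ho)
  have h1 : (⟨k, hkC⟩ : centralizer ({t} : Set G)) ∈ pLayer 2 ↥(centralizer ({t} : Set G)) :=
    PComponents.pcomp_le_pLayer h.comp.2 (mem_subgroupOf.2 hk)
  have h2 : (⟨o, hoC⟩ : centralizer ({t} : Set G)) ∈ oddCore ↥(centralizer ({t} : Set G)) := by
    rw [← mem_core_iff hoC]
    exact h.comp.core_le_core ho
  have h3 := hB (mem_map_of_mem _ (commutator_mem_commutator h1 h2))
  rw [mem_bot] at h3
  have h4 : ⁅k, o⁆ = 1 := h3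
  rw [commutatorElement_eq_one_iff_mul_comm] at h4
  exact h4.symm

theorem quotient_simple {X : Type*} [Group X] {N : Subgroup X} [N.Normal] (hN : N ≤ center X)
    (hs : IsSimpleGroup (X ⧸ N)) (hn : ¬ ∀ a b : X ⧸ N, a * b = b * a) : center X = N := by
  apply le_antisymm _ hN
  have h1 : ((center X).map (QuotientGroup.mk' N)).Normal :=
    Subgroup.Normal.map inferInstance _ (QuotientGroup.mk'_surjective N)
  rcases h1.eq_bot_or_eq_top with h2 | h2
  · rwa [Subgroup.map_eq_bot_iff, QuotientGroup.ker_mk'] at h2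
  · exfalso
    apply hn
    intro a b
    have h3 : a ∈ (center X).map (QuotientGroup.mk' N) := h2 ▸ mem_top a
    obtain ⟨z, hz, rfl⟩ := h3
    obtain ⟨b, rfl⟩ := QuotientGroup.mk'_surjective N b
    rw [← map_mul, ← map_mul, mem_center_iff.1 hz b]

theorem center_eq (h : Sit t K) : center K = oddCore ↥K := by
  apply quotient_simple _ h.sm h.snc
  intro o ho
  rw [mem_center_iff]
  intro k
  exact Subtype.ext (core_central h o ((mem_core_iff o.2).2 ho) k k.2).symm

/-- `K` is quasisimple. -/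
theorem quasisimple (h : Sit t K) : IsQuasisimple K := by
  refine ⟨Subgroup.isPerfect_iff.mpr h.comp.perfect, ?_⟩
  have e : (↥K ⧸ oddCore ↥K) ≃* (↥K ⧸ center ↥K) := QuotientGroup.quotientMulEquivOfEq (center_eq h).symm
  exact isSimple_congr e h.sm

theorem t_mem (h : Sit t K) : t ∈ centralizer (K : Set G) := by
  rw [mem_centralizer_iff]
  intro k hk
  exact (mem_centralizer_singleton_iff.1 (h.comp.le hk))

/-- 2-elements of `C(t)` centralizing `K` -/
theorem two_mem (h : Sit t K) {q : G} (hq : q ∈ centralizer (K : Set G)) (hqt : q * t = t * q) {n : ℕ}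
    (hn : q ^ 2 ^ n = 1) : q = 1 ∨ q = t := by
  have : Fact (Nat.Prime 2) := ⟨Nat.prime_two⟩
  obtain ⟨T, hT, hqT⟩ := exists_sylIn_ge (p := 2) (R := zpowers q) (H := centralizer ({t} : Set G))
    (by rw [zpowers_le]; exact mem_centralizer_singleton_iff.2 hqt) (L2Frame.isPGroup_zpowers hn)
  refine h.q T hT q (mem_inf.2 ⟨hqT (mem_zpowers q), mem_fix.2 ?_⟩)
  refine ⟨centralizer_le_normalizer _ hq, fun y hy => ?_⟩
  rw [commutatorElement_eq_one_iff_mul_comm.2 (mem_centralizer_iff.1 hq y hy).symm]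
  exact one_mem _

/-- a 2-subgroup of `C(K)` containing `t` is `⟨t⟩` -/
theorem two_group (h : Sit t K) {P : Subgroup G} (hP : IsPGroup 2 P) (hPK : P ≤ centralizer (K : Set G))
    (htP : t ∈ P) : P = zpowers t := by
  have : Fact (Nat.Prime 2) := ⟨Nat.prime_two⟩
  have h1 : ∀ q ∈ P, q * t = t * q → q = 1 ∨ q = t := by
    intro q hq hqt
    obtain ⟨n, hn⟩ := hP ⟨q, hq⟩
    exact two_mem h (hPK hq) hqt (n := n) (by simpa using congrArg Subtype.val hn)
  have hnt : Nontrivial P := ⟨⟨⟨t, htP⟩, 1, fun hc => ne_one h (congrArg Subtype.val hc)⟩⟩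
  have h2 := hP.center_nontrivial
  obtain ⟨⟨z, hz⟩, hz1⟩ := exists_ne (1 : center P)
  have hz1' : (z : G) ≠ 1 := fun hc => hz1 (Subtype.ext (Subtype.ext hc))
  have hzc : ∀ q ∈ P, q * z = z * q := fun q hq =>
    congrArg Subtype.val (mem_center_iff.1 hz ⟨q, hq⟩)
  have h3 : (z : G) = t := (h1 z z.2 (hzc t htP).symm).resolve_left hz1'
  apply le_antisymm
  · intro q hq
    rcases h1 q hq (by rw [← h3]; exact hzc q hq) with rfl | rfl
    · exact one_mem _
    · exact mem_zpowers _
  · rw [zpowers_le]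
    exact htP

/-- Involutions of `C(K)` are conjugate to `t` in `C(K)`. -/
theorem conj_t (h : Sit t K) {s : G} (hs : s ∈ centralizer (K : Set G)) (hs2 : orderOf s = 2) :
    ∃ c ∈ centralizer (K : Set G), c * s * c⁻¹ = t := by
  have : Fact (Nat.Prime 2) := ⟨Nat.prime_two⟩
  obtain ⟨T, hT, htT⟩ := exists_sylIn_ge (p := 2) (R := zpowers t) (H := centralizer (K : Set G))
    (by rw [zpowers_le]; exact t_mem h) (L2Frame.isPGroup_zpowers (n := 1) (by
      rw [pow_one, pow_two, sq h]))
  have h1 := two_group h hT.isPGroup hT.le (htT (mem_zpowers t))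
  have hss : s ^ 2 ^ 1 = 1 := by rw [pow_one, ← hs2, pow_orderOf_eq_one]
  obtain ⟨c, hc, h2⟩ := hT.conj_le (R := zpowers s) (by rw [zpowers_le]; exact hs)
    (L2Frame.isPGroup_zpowers hss)
  refine ⟨c, hc, ?_⟩
  have h3 := h2 s (mem_zpowers s)
  rw [h1] at h3
  obtain ⟨k, hk⟩ := mem_zpowers_iff.1 h3
  have h4 : t ^ k = 1 ∨ t ^ k = t := by
    rcases Int.even_or_odd k with ⟨m, hm⟩ | ⟨m, hm⟩
    · left
      rw [hm, ← two_mul, zpow_mul, zpow_two, sq h, one_zpow]
    · right
      rw [hm, zpow_add, zpow_mul, zpow_two, sq h, one_zpow, one_mul, zpow_one]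
  rcases h4 with h4 | h4
  · exfalso
    rw [hk] at h4
    have h5 : s = 1 := by
      have : s = c⁻¹ * (c * s * c⁻¹) * c := by group
      rw [this, h4]; group
    rw [h5, orderOf_one] at hs2
    norm_num at hs2
  · rw [← hk, h4]

theorem normalizer_cen_le (h : Sit t K) :
    normalizer (centralizer (K : Set G) : Set G) ≤ normalizer (K : Set G) := by
  intro g hg
  have h1 : g * t * g⁻¹ ∈ centralizer (K : Set G) := (mem_normalizer_iff.1 hg t).1 (t_mem h)
  have h2 : orderOf (g * t * g⁻¹) = 2 := by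
    rw [← h.ht]
    exact orderOf_injective (MulAut.conj g).toMonoidHom (MulAut.conj g).injective t
  obtain ⟨c, hc, h3⟩ := conj_t h h1 h2
  have h4 : c * g ∈ centralizer ({t} : Set G) := by
    rw [mem_centralizer_singleton_iff]
    have h5 : (c * g) * t * (c * g)⁻¹ = t := by
      rw [← h3]
      conv_rhs => rw [← h3]
      group
    rw [mul_inv_eq_iff_eq_mul] at h5
    exact h5
  have h5 := h.norm h4
  have h6 : c ∈ normalizer (K : Set G) := centralizer_le_normalizer _ hc
  have h7 := mul_mem (inv_mem h6) h5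
  rwa [inv_mul_cancel_left] at h7

theorem le_normalizer_cen (K : Subgroup G) :
    normalizer (K : Set G) ≤ normalizer (centralizer (K : Set G) : Set G) := by
  intro g hg
  rw [mem_normalizer_iff]
  have key : ∀ g : G, g ∈ normalizer (K : Set G) → ∀ x ∈ centralizer (K : Set G),
      g * x * g⁻¹ ∈ centralizer (K : Set G) := by
    intro g hg x hx
    rw [mem_centralizer_iff] at hx ⊢
    intro k hk
    have h1 : g⁻¹ * k * g ∈ K := by
      have := (mem_normalizer_iff.1 (inv_mem hg) k).1 hk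
      rwa [inv_inv] at this
    have h2 := hx _ h1
    calc k * (g * x * g⁻¹) = g * ((g⁻¹ * k * g) * x) * g⁻¹ := by group
      _ = g * (x * (g⁻¹ * k * g)) * g⁻¹ := by rw [h2]
      _ = g * x * g⁻¹ * k := by group
  intro x
  refine ⟨key g hg x, fun hx => ?_⟩
  have h1 := key g⁻¹ (inv_mem hg) _ hx
  have h2 : g⁻¹ * (g * x * g⁻¹) * g⁻¹⁻¹ = x := by group
  rwa [h2] at h1

/-- **`K` is a standard subgroup** (`4 ∣ |K|`). -/
theorem standard (h : Sit t K) (h4 : 4 ∣ Nat.card K) : IsStandardSubgroup K := by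
  have : Fact (Nat.Prime 2) := ⟨Nat.prime_two⟩
  refine ⟨quasisimple h, ⟨?_, ?_⟩, ?_, ?_⟩
  · rw [even_iff_two_dvd, ← h.ht]
    have := orderOf_dvd_natCard (⟨t, t_mem h⟩ : centralizer (K : Set G))
    rwa [Subgroup.orderOf_mk] at this
  · intro g hg
    by_contra hodd
    rw [Nat.not_odd_iff_even, even_iff_two_dvd] at hodd
    obtain ⟨⟨s, hs⟩, hs2⟩ := exists_prime_orderOf_dvd_card' 2 hodd
    rw [Subgroup.orderOf_mk] at hs2
    obtain ⟨hs1, r, hr, hrs⟩ := hs
    have hrs' : g * r * g⁻¹ = s := hrs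
    have hr2 : orderOf r = 2 := by
      rw [← hs2, ← hrs]
      exact (orderOf_injective (MulAut.conj g).toMonoidHom (MulAut.conj g).injective r).symm
    obtain ⟨c, hc, h1⟩ := conj_t h hs1 hs2
    obtain ⟨d, hd, h2⟩ := conj_t h hr hr2
    apply hg
    have h3 : c * g * d⁻¹ ∈ centralizer ({t} : Set G) := by
      rw [mem_centralizer_singleton_iff, ← mul_inv_eq_iff_eq_mul]
      have h5 : r = d⁻¹ * t * d := by rw [← h2]; group
      calc c * g * d⁻¹ * t * (c * g * d⁻¹)⁻¹ = c * (g * (d⁻¹ * t * d) * g⁻¹) * c⁻¹ := by group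
        _ = c * s * c⁻¹ := by rw [← h5, hrs']
        _ = t := h1
    have h6 := le_normalizer_cen K (h.norm h3)
    have h7 : c ∈ normalizer (centralizer (K : Set G) : Set G) := le_normalizer hc
    have h8 : d ∈ normalizer (centralizer (K : Set G) : Set G) := le_normalizer hd
    have h9 : g = c⁻¹ * (c * g * d⁻¹) * d := by group
    rw [h9]
    exact mul_mem (mul_mem (inv_mem h7) h6) h8
  · intro g _ h1
    rw [commutator_eq_bot_iff_le_centralizer] at h1
    -- `K ≤ C(K^g)`, so `K^{g⁻¹} ≤ C(K)`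
    have h2 : K.map (MulAut.conj g⁻¹).toMonoidHom ≤ centralizer (K : Set G) := by
      rintro _ ⟨k, hk, rfl⟩
      rw [mem_centralizer_iff]
      intro y hy
      have h3 := mem_centralizer_iff.1 (h1 hk) (g * y * g⁻¹) ⟨y, hy, rfl⟩
      change y * (g⁻¹ * k * g⁻¹⁻¹) = g⁻¹ * k * g⁻¹⁻¹ * y
      calc y * (g⁻¹ * k * g⁻¹⁻¹) = g⁻¹ * (g * y * g⁻¹ * k) * g := by group
        _ = g⁻¹ * (k * (g * y * g⁻¹)) * g := by rw [h3]
        _ = g⁻¹ * k * g⁻¹⁻¹ * y := by group
    have h3 : 4 ∣ Nat.card (centralizer (K : Set G)) := by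
      have h5 : Nat.card (K.map (MulAut.conj g⁻¹).toMonoidHom) = Nat.card K :=
        Nat.card_congr (K.equivMapOfInjective _ (MulAut.conj g⁻¹).injective).symm.toEquiv
      rw [← h5] at h4
      exact h4.trans (card_dvd_of_le h2)
    obtain ⟨T, hT, htT⟩ := exists_sylIn_ge (p := 2) (R := zpowers t) (H := centralizer (K : Set G))
      (by rw [zpowers_le]; exact t_mem h) (L2Frame.isPGroup_zpowers (n := 1) (by
        rw [pow_one, pow_two, sq h]))
    have h6 := two_group h hT.isPGroup hT.le (htT (mem_zpowers t))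
    have h7 := hT.not_dvd
    apply h7
    rw [h6]
    have h8 := relIndex_mul_relIndex (⊥ : Subgroup G) (zpowers t) (centralizer (K : Set G)) bot_le
      (by rw [zpowers_le]; exact t_mem h)
    rw [relIndex_bot_left, relIndex_bot_left, Nat.card_zpowers, h.ht] at h8
    obtain ⟨m, hm⟩ := h3
    rw [hm] at h8
    exact ⟨m, by omega⟩
  · exact le_antisymm (le_normalizer_cen K) (normalizer_cen_le h)

/-- the Sylow 2-subgroups of `C(K)` are cyclic -/
theorem sylow_cyclic (h : Sit t K) (R : Sylow 2 ↥(centralizer (K : Set G))) :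
    IsCyclic ↥(R : Subgroup ↥(centralizer (K : Set G))) := by
  have : Fact (Nat.Prime 2) := ⟨Nat.prime_two⟩
  obtain ⟨T, hT, htT⟩ := exists_sylIn_ge (p := 2) (R := zpowers t) (H := centralizer (K : Set G))
    (by rw [zpowers_le]; exact t_mem h) (L2Frame.isPGroup_zpowers (n := 1) (by
      rw [pow_one, pow_two, sq h]))
  have h6 := two_group h hT.isPGroup hT.le (htT (mem_zpowers t))
  obtain ⟨T', hT'⟩ := hT
  have h7 : Nat.card R = 2 := by
    rw [Nat.card_congr (R.equiv T').toEquiv]
    have h8 : Nat.card ((T' : Subgroup ↥(centralizer (K : Set G))).map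
        (centralizer (K : Set G)).subtype) = Nat.card T' := Nat.card_congr
          ((T' : Subgroup ↥(centralizer (K : Set G))).equivMapOfInjective _
            (subtype_injective _)).symm.toEquiv
    rw [← h8, hT', h6, Nat.card_zpowers, h.ht]
  exact isCyclic_of_prime_card h7

theorem not_normal (h : Sit t K) : ¬ K.Normal := by
  intro hn
  have := h.simple
  rcases hn.eq_bot_or_eq_top with h1 | h1
  · exact h.comp.ne_bot h1
  · have h2 : centralizer ({t} : Set G) = ⊤ := top_le_iff.1 (h1 ▸ h.comp.le)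
    have h3 : t ∈ center G := by
      rw [mem_center_iff]
      intro g
      exact mem_centralizer_singleton_iff.1 (h2 ▸ mem_top g : g ∈ centralizer ({t} : Set G))
    rw [Setup.center_eq_bot h.nc, mem_bot] at h3
    exact ne_one h h3

/-- `G` is not of characteristic 2 type. -/
theorem not_charTwo (h : Sit t K) (hc : IsCharacteristicTwoType G) : False := by
  have : Fact (Nat.Prime 2) := ⟨Nat.prime_two⟩
  have hz : IsPGroup 2 (zpowers t) := L2Frame.isPGroup_zpowers (n := 1) (by
        rw [pow_one, pow_two, sq h])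
  have hz1 : zpowers t ≠ ⊥ := by
    rw [Ne, zpowers_eq_bot]
    exact ne_one h
  have h1 := hc.2 _ hz hz1
  set N := normalizer ((zpowers t : Subgroup G) : Set G) with hN
  have hNC : N ≤ centralizer ({t} : Set G) := by
    intro g hg
    have h2 := (mem_normalizer_iff.1 hg t).1 (mem_zpowers t)
    obtain ⟨k, hk⟩ := mem_zpowers_iff.1 h2
    have h4 : t ^ k = 1 ∨ t ^ k = t := by
      rcases Int.even_or_odd k with ⟨m, hm⟩ | ⟨m, hm⟩
      · left
        rw [hm, ← two_mul, zpow_mul, zpow_two, sq h, one_zpow]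
      · right
        rw [hm, zpow_add, zpow_mul, zpow_two, sq h, one_zpow, one_mul, zpow_one]
    rcases h4 with h4 | h4
    · exfalso
      rw [hk] at h4
      apply ne_one h
      have : t = g⁻¹ * (g * t * g⁻¹) * g := by group
      rw [this, h4]; group
    · rw [hk, mul_inv_eq_iff_eq_mul] at h4
      exact mem_centralizer_singleton_iff.2 h4
  have hCN : centralizer ({t} : Set G) ≤ N := by
    intro g hg
    rw [hN]
    apply centralizer_le_normalizer
    rw [mem_centralizer_iff]
    intro y hy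
    obtain ⟨k, rfl⟩ := mem_zpowers_iff.1 hy
    have h2 : Commute t g := (mem_centralizer_singleton_iff.1 hg).symm
    exact (h2.zpow_left k).eq
  have hKN : K ≤ N := h.comp.le.trans hCN
  -- `P = O_2(N)`
  set P : Subgroup N := pCore 2 N with hP
  have hPp : IsPGroup 2 P := Cores.pCore_isPGroup 2
  have hPn : P.Normal := Cores.pCore_normal 2
  have hB2 : ¬ IsPGroup 2 (Bar K) := by
    intro h2
    apply h.snc
    have := h.sm
    have h3 := h2.center_nontrivial
    rcases (inferInstance : (center (Bar K)).Normal).eq_bot_or_eq_top with h4 | h4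
    · rw [h4] at h3
      exact absurd h3 (by rw [not_nontrivial_iff_subsingleton]; infer_instance)
    · intro a b
      exact mem_center_iff.mp (h4 ▸ mem_top b : b ∈ center (Bar K)) a
  -- `P ∩ K = 1`
  have hPK : ∀ y : G, ∀ hy : y ∈ K, (⟨y, hKN hy⟩ : N) ∈ P → y = 1 := by
    let D : Subgroup K := P.comap (inclusion hKN)
    have hD2 : IsPGroup 2 D := hPp.comap_of_injective _ (inclusion_injective hKN)
    have hDn : D.Normal := hPn.comap _
    have hDm : (D.map (QuotientGroup.mk' (oddCore ↥K))).Normal :=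
      hDn.map _ (QuotientGroup.mk'_surjective _)
    have := h.sm
    intro y hy hyP
    rcases hDm.eq_bot_or_eq_top with h2 | h2
    · rw [Subgroup.map_eq_bot_iff, QuotientGroup.ker_mk'] at h2
      have h3 : (⟨y, hy⟩ : K) ∈ oddCore ↥K := h2 hyP
      obtain ⟨n, hn⟩ := hPp ⟨_, hyP⟩
      have h4 : y ^ 2 ^ n = 1 := by
        have := congrArg Subtype.val (congrArg Subtype.val hn)
        simpa using this
      exact eq_one_of_mem_core ((mem_core_iff hy).2 h3) h4
    · exfalso
      apply hB2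
      have h3 : IsPGroup 2 (⊤ : Subgroup (Bar K)) := h2 ▸ hD2.map _
      exact h3.of_equiv topEquiv
  have hcomm : K.comap N.subtype ≤ centralizer (P : Set N) := by
    intro k hk
    rw [mem_centralizer_iff]
    intro p hp
    rw [← commutatorElement_eq_one_iff_mul_comm]
    have h2 : ((⁅p, k⁆ : N) : G) ∈ K := by
      have h3 : (p : G) * (k : G) * (p : G)⁻¹ ∈ K :=
        (mem_normalizer_iff.1 (h.norm (hNC p.2)) k).1 hk
      have h4 : ((⁅p, k⁆ : N) : G) = (p : G) * (k : G) * (p : G)⁻¹ * (k : G)⁻¹ := rfl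
      rw [h4]
      exact K.mul_mem h3 (K.inv_mem hk)
    have h3 : ⁅p, k⁆ ∈ P := by
      have h4 : ⁅p, k⁆ = p * (k * p⁻¹ * k⁻¹) := by rw [commutatorElement_def]; group
      rw [h4]
      exact P.mul_mem hp (hPn.conj_mem _ (P.inv_mem hp) k)
    exact Subtype.ext (hPK _ h2 h3)
  apply h.comp.ne_bot
  rw [eq_bot_iff]
  intro k hk
  exact hPK k hk (h1 (hcomm (show (⟨k, hKN hk⟩ : N) ∈ K.comap N.subtype from hk)))

theorem layer_eq_top [IsSimpleGroup G] (hn : ¬ ∀ a b : G, a * b = b * a) : layer G = ⊤ := by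
  rw [eq_top_iff]
  have h1 : IsComponent (⊤ : Subgroup G) := by
    refine ⟨(inferInstance : (⊤ : Subgroup G).Normal).isSubnormal, ?_⟩
    exact Cfsg.Agent.SignalizersComponents.PLayerAut.isQuasisimple_of_equiv topEquiv.symm
      (Setup.isQuasisimple_of_simple inferInstance hn)
  exact le_sSup h1

/-- **`L₂(2^a)`, `a ≥ 3`, is impossible.** -/
theorem false_of_even (h : Sit t K) {F : Type v} [Field F] [Fintype F] (a : ℕ) (ha : 3 ≤ a)
    (hF : Fintype.card F = 2 ^ a) (e : Bar K ≃* Matrix.ProjectiveSpecialLinearGroup (Fin 2) F)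
    (h4 : 4 ∣ Nat.card K) : False := by
  have := h.simple
  have hl : layer G = ⊤ := layer_eq_top h.nc
  have eK : (↥K ⧸ center ↥K) ≃* Matrix.ProjectiveSpecialLinearGroup (Fin 2) F :=
    (QuotientGroup.quotientMulEquivOfEq (center_eq h)).trans e
  have eG : ↥(layer G) ≃* G := (MulEquiv.subgroupCongr hl).trans topEquiv
  have hB : HasStrongBProperty G := fun H N _ => Cfsg.Agent.S1726.result
  rcases Cfsg.Agent.S1773.result (oddCore_eq_bot h) hB K (standard h h4) (not_normal h)
    (sylow_cyclic h) t h.ht (t_mem h) a (by omega) hF ⟨eK⟩ with h1 | h1 | h1 | h1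
  · obtain ⟨f⟩ := h1
    have f' : G ≃* ↥K × ↥K := eG.symm.trans f
    have hs : IsSimpleGroup (↥K × ↥K) := isSimple_congr f' inferInstance
    rcases (inferInstance : (MonoidHom.fst ↥K ↥K).ker.Normal).eq_bot_or_eq_top with h2 | h2
    · apply h.comp.ne_bot
      rw [eq_bot_iff]
      intro k hk
      have h3 : ((1, ⟨k, hk⟩) : ↥K × ↥K) ∈ (MonoidHom.fst ↥K ↥K).ker := rfl
      rw [h2, mem_bot] at h3
      exact congrArg (fun y => (y.2 : G)) h3
    · apply h.comp.ne_bot
      rw [eq_bot_iff]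
      intro k hk
      have h3 : ((⟨k, hk⟩, 1) : ↥K × ↥K) ∈ (MonoidHom.fst ↥K ↥K).ker := h2 ▸ mem_top _
      exact congrArg Subtype.val h3
  · exact h1.2 ⟨t, hl ▸ mem_top t, fun x _ => rfl⟩
  · omega
  · obtain ⟨-, -, E, _, _, hE, ⟨f⟩⟩ := h1
    exact not_charTwo h (OddHalf.Small.Transport.isCharacteristicTwoType (f.symm.trans eG)
      (OddHalf.Small.G23.g23 E hE))

end Cfsg.Agent.H312.EvenCase
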