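import Cfsg.Agent.H312.TwoEight
import Cfsg.Agent.GH.L2LeafC

/-!
# `G` simple, `T = ⟨x⟩ × (T ∩ K)` a Sylow 2-subgroup of `C(x)`, `K / O(K) = L₂(q)`, `q` odd
-/

set_option autoImplicit false
set_option linter.unusedSectionVars false

universe u

open Cfsg Subgroup
open Cfsg.Agent.Intrinsic.Basic Cfsg.Agent.GH.Defs Cfsg.Agent.GH.Comp
open Cfsg.Agent.GH.L2Frame (fix mem_fix)
open Cfsg.Agent.Walter.SylowIn
open Cfsg.Agent.GH Cfsg.Agent.GH.L2AutPlus Cfsg.Agent.GH.N2
open Cfsg.Agent.GH.E (rr)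

namespace Cfsg.Agent.H312.OddCase

variable {G : Type u} [Group G]

theorem commutator_top [IsSimpleGroup G] (hG : ¬ ∀ a b : G, a * b = b * a) : commutator G = ⊤ := by
  rcases (inferInstance : (commutator G).Normal).eq_bot_or_eq_top with h1 | h1
  · exfalso
    push Not at hG
    obtain ⟨a, b, hab⟩ := hG
    apply hab
    have h2 : a * b * a⁻¹ * b⁻¹ ∈ commutator G := commutator_mem_commutator (mem_top a) (mem_top b)
    rw [h1, mem_bot] at h2
    rw [mul_inv_eq_one, mul_inv_eq_iff_eq_mul] at h2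
    exact h2
  · exact h1

/-- The Sylow 2-subgroups of `G` are elementary abelian of order 8. -/
theorem main [Finite G] [IsSimpleGroup G] (hG : ¬ ∀ a b : G, a * b = b * a) {x : G}
    {K T : Subgroup G} (hx : orderOf x = 2) (F : L2Frame.Frame (centralizer ({x} : Set G)) K T)
    (hn : centralizer ({x} : Set G) ≤ normalizer (K : Set G)) (hg : Good (STop K))
    (hQ : ∀ q ∈ T ⊓ fix K, q = 1 ∨ q = x) (hT : ∀ t ∈ T, t ∈ K ∨ x * t ∈ K) (S : Sylow 2 G) :
    Nat.card ↥(S : Subgroup G) = 8 ∧ ∀ s ∈ (S : Subgroup G), s ^ 2 = 1 := by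
  have : Fact (Nat.Prime 2) := ⟨Nat.prime_two⟩
  have hs : IsSimpleGroup G := inferInstance
  have hnc : ¬ IsMulCommutative G := fun h => hG fun a b => h.is_comm.comm a b
  obtain ⟨A, _, d, r, c, o1, o2, F', X⟩ := L2QTwo.exists_frameX hx F hn hg hQ
  have ho : ∀ t ∈ T, o1 t = 1 ∧ o2 t = 1 := by
    intro t ht
    rcases hT t ht with h1 | h1
    · exact ⟨F'.o1_K t h1, F'.o2_K t h1⟩
    · have h2 := F'.o1_K _ h1
      have h3 := F'.o2_K _ h1
      rw [F'.o1_mul' F'.x_mem ht, F'.o1_x, one_mul] at h2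
      rw [F'.o2_mul' F'.x_mem ht, F'.o2_x, one_mul] at h3
      exact ⟨h2, h3⟩
  -- it is enough to find one Sylow 2-subgroup
  obtain ⟨S₀, hTS⟩ := F.syl.isPGroup.exists_le_sylow
  have hTS₀ : T = S₀ := by
    by_contra hne
    have hnS : ¬ ∃ R : Sylow 2 G, (R : Subgroup G) = T := by
      rintro ⟨R, hR⟩
      apply hne
      apply Subgroup.eq_of_le_of_card_ge hTS
      rw [← hR]
      exact (Nat.card_congr (R.equiv S₀).toEquiv).symm.le
    have hcD := N2.cardD F'
    by_cases hd : d = 2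
    · obtain ⟨hB, hS, k, -, hk, hk1, hk2⟩ := N2.exists_base_two hx F hn hg hQ
        (by rw [hcD, hd]; norm_num)
      apply hnS
      refine N2.sylow_of_noInv hG hB hS (hB.level hk hk1 hk2) fun t ht htF => absurd ?_ htF
      rw [hB.mem_rr]
      rcases hT t ht with h1 | h1
      · exact Or.inl ⟨ht, h1⟩
      · exact Or.inr ⟨T.mul_mem F'.x_mem ht, h1⟩
    have hd3 : 3 ≤ d := by
      have := F'.d_ge
      omega
    by_cases hd4 : 4 ≤ d
    · refine NFour.Main.main F' hd3 (fun y hy hyy => X.mixed y hy (Or.inr hyy))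
          (fun y hy h5 h6 h7 => by
            obtain ⟨b, hb, h8, -⟩ := X.field_comm y hy h5 h6 h7
            exact ⟨b, hb, h8⟩)
          (L2LeafC.exists_rho F' X) (fun y hy _ => (ho y hy).2) (Or.inl hd4) hTS hne
          (commutator_top hG)
    · have hd' : d = 3 := by omega
      have h8 : Nat.card ↥(T ⊓ K) = 8 := by rw [hcD, hd']; norm_num
      have h16 : Nat.card T = 16 := by rw [L2LeafC.card_T F' ho, h8]
      obtain ⟨r', c', hr', hc', hor, hcr, hf1, hf2, -, h5⟩ :=
        N2.exists_base_three hx F hn hg hQ h8 h16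
      obtain ⟨hB, hS, k, -, hk, hk1, hk2⟩ := h5 c' hf1 hc'
      have ht : r' * c' ∈ T ⊓ K := mul_mem hr' hc'
      have hzE : r' ^ 2 ∈ hf1.sub := Or.inr (Or.inl rfl)
      have hr1 : r' ≠ 1 := by
        rintro rfl
        rw [orderOf_one] at hor
        norm_num at hor
      have hnr : ∀ j : ℕ, r' ^ j = c' → False := by
        intro j hj
        have h1 : c' * r' * c'⁻¹ = r' := by
          rw [← hj, mul_inv_eq_iff_eq_mul, ← pow_succ, ← pow_succ']
        rw [h1] at hcr
        apply hf1.a1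
        rw [pow_two]
        nth_rewrite 1 [hcr]
        exact inv_mul_cancel r'
      have htE : r' * c' ∉ rr x hf1.sub := by
        rw [hB.mem_rr]
        rintro (h1 | h1)
        · rcases h1 with h1 | h1 | h1 | h1
          · exact hf2.b1 h1
          · exact hf2.ne h1.symm
          · exact hr1 (mul_eq_right.1 h1)
          · have h2 := mul_right_cancel h1
            apply hr1
            rw [pow_two] at h2
            exact (left_eq_mul.1 h2)
        · -- `x r' c' ∈ K` implies `x ∈ K`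
          have h2 : x * (r' * c') ∈ T ⊓ K := by
            rcases h1 with h1 | h1 | h1 | h1 <;> rw [h1]
            · exact one_mem _
            · exact pow_mem hr' 2
            · exact hc'
            · exact mul_mem (pow_mem hr' 2) hc'
          apply F'.x_not
          have h3 : x = x * (r' * c') * (r' * c')⁻¹ := by group
          rw [h3]
          exact mul_mem h2 (inv_mem ht)
      obtain ⟨k', -, hk'⟩ := F'.inv_conj _ ht (r' ^ 2) (pow_mem hr' 2) hf2.bb hf2.b1
        hf1.aa hf1.a1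
      exact TwoEight.false_of_conj hG hB hS hk hk1 hk2 ht.1 htE hf2.bb hzE
        (isConj_iff.2 ⟨k', hk'⟩)
  -- `T` Sylow
  obtain ⟨hd, hform⟩ := L2QTwo.Simple.main hs hnc F' S₀ hTS₀.symm
  obtain ⟨hB, hS, k, -, hk, hk1, hk2⟩ := N2.exists_base_two hx F hn hg hQ
    (by rw [N2.cardD F', hd]; norm_num)
  have hTr : rr x (T ⊓ K) = T := by
    apply le_antisymm
    · exact sup_le inf_le_left (by rw [zpowers_le]; exact F'.x_mem)
    · intro t ht
      rw [hB.mem_rr]
      rcases hT t ht with h1 | h1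
      · exact Or.inl ⟨ht, h1⟩
      · exact Or.inr ⟨T.mul_mem F'.x_mem ht, h1⟩
  have hS8 : Nat.card ↥(S₀ : Subgroup G) = 8 := by rw [← hTS₀, ← hTr, hB.card_rr]
  refine ⟨?_, ?_⟩
  · rw [← hS8]
    exact Nat.card_congr (S.equiv S₀).toEquiv
  · obtain ⟨g, hg⟩ := MulAction.exists_smul_eq G S₀ S
    intro s hs
    rw [← hg] at hs
    have h2 : g⁻¹ * s * g ∈ (S₀ : Subgroup G) := by
      have h3 : s ∈ ((g • S₀ : Sylow 2 G) : Subgroup G) := hs
      rw [Sylow.coe_subgroup_smul, Subgroup.mem_pointwise_smul_iff_inv_smul_mem] at h3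
      have h4 : (MulAut.conj g)⁻¹ • s = g⁻¹ * s * g := by
        rw [← map_inv]; simp
      rw [← h4]
      exact h3
    rw [← hTS₀, ← hTr] at h2
    have h3 := hB.rr_sq h2
    have h4 : s ^ 2 = g * (g⁻¹ * s * g * (g⁻¹ * s * g)) * g⁻¹ := by rw [pow_two]; group
    rw [h4, h3]
    group

end Cfsg.Agent.H312.OddCase
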