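import Cfsg.Agent.H312.ReeSit
import Cfsg.Agent.Schreier.Assembly

/-!
# S3217 for `q > 2` (helper312)

`large` : `O(G) = O_2(G) = 1` : `G` has a normal subgroup of index `ρ` isomorphic to `²F₄(q)`.
-/

set_option autoImplicit false

namespace Cfsg.Agent.H312.Ree

open Subgroup
open scoped commutatorElement Pointwise

section

variable {G : Type*} [Group G] [Finite G] {M : Subgroup G}

/-- a perfect subgroup of an almost simple group lies in the socle -/
theorem perfect_le (hM : M.Normal) (hsch : Schreier.Basic.Sch ↥M) (hc : centralizer (M : Set G) = ⊥) {C : Subgroup G}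
    (hC : ⁅C, C⁆ = C) : C ≤ M := by
  let φ : G →* MulAut M := MulAut.conjNormal
  have h1 : ⁅C.map φ, C.map φ⁆ = C.map φ := by rw [← map_commutator, hC]
  intro c hcC
  obtain ⟨m, hm⟩ := hsch _ h1 (mem_map_of_mem φ hcC)
  have h2 : (m : G)⁻¹ * c ∈ centralizer (M : Set G) := by
    rw [mem_centralizer_iff]
    intro x hx
    have h3 : MulAut.conj m ⟨x, hx⟩ = φ c ⟨x, hx⟩ := by rw [hm]
    have h4 : (m : G) * x * (m : G)⁻¹ = c * x * c⁻¹ := by
      have h5 := congrArg Subtype.val h3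
      have h6 : ((MulAut.conj m ⟨x, hx⟩ : M) : G) = (m : G) * x * (m : G)⁻¹ := rfl
      have h7 : ((φ c ⟨x, hx⟩ : M) : G) = c * x * c⁻¹ := MulAut.conjNormal_apply c ⟨x, hx⟩
      rw [h6, h7] at h5
      exact h5
    calc x * ((m : G)⁻¹ * c) = (m : G)⁻¹ * ((m : G) * x * (m : G)⁻¹) * c := by group
      _ = (m : G)⁻¹ * (c * x * c⁻¹) * c := by rw [h4]
      _ = (m : G)⁻¹ * c * x := by group
  rw [hc, mem_bot, inv_mul_eq_one] at h2
  rw [← h2]
  exact m.2

end

section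

open Cfsg.Agent.SplitTwo Cfsg.Agent.SplitTwo.ZS Cfsg.Agent.TitsThree.RankTwoZ Cfsg.Agent.SplitTwo.RootSysZ
open Cfsg.Agent.KFacts.TwF4 Cfsg.Agent.KFacts.TwF4.Arc Cfsg.Agent.CpAutTwF

variable {G : Type*} [Group G] [Finite G] {τ : G} {S : Sylow 2 G} {C : Subgroup G}
  {K : Type*} [Field K] [Fintype K] {m : ℕ}

theorem large (hK : Fintype.card K = 2 ^ (2 * m + 1)) {σ : K →+* K} (S' : Full σ ↥(Lie.twistedF4 K (2 ^ m)))
    (hR : S'.R.p = 2) (hm : 1 ≤ m) (hτ : orderOf τ = 2) (hτS : τ ∈ (S : Subgroup G))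
    (hτc : ∀ s ∈ (S : Subgroup G), s * τ = τ * s) (hCle : C ≤ centralizer ({τ} : Set G))
    (hCn : (C.subgroupOf (centralizer ({τ} : Set G))).Normal)
    (hodd : Odd (C.relIndex (centralizer ({τ} : Set G)))) (e : ↥C ≃* ↥S'.PL) (hO : Cfsg.oddCore G = ⊥)
    (h2 : Cfsg.pCore 2 G = ⊥)
    (hknown : ∀ M : Subgroup G, IsSimpleGroup M → IsKnownSimple' M) :
    ∃ N : Subgroup G, N.Normal ∧ N.index = C.relIndex (centralizer ({τ} : Set G)) ∧
      Nonempty (↥N ≃* ↥(Lie.twistedF4 K (2 ^ m))) := by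
  have hfact : Fact (Nat.Prime 2) := ⟨Nat.prime_two⟩
  have hchar := ChevalleyStructure.TwF4.Twisted.charP_two hK
  have hfin : Finite ↥(Lie.twistedF4 K (2 ^ m)) := inferInstance
  have hU := sylow_U hK S' hR
  have hq : Nat.card K = 2 ^ (2 * m + 1) := by rw [Nat.card_eq_fintype_card, hK]
  have hF : ∃ c : Kˣ, c ≠ 1 := by
    have : Nontrivial Kˣ := by
      rw [← Finite.one_lt_card_iff_nontrivial, Nat.card_units, hq]
      have h1 : 2 ^ 3 ≤ 2 ^ (2 * m + 1) := Nat.pow_le_pow_right (by norm_num) (by omega)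
      omega
    exact exists_ne 1
  have h := sit_of S' hR hU hτ hτS hτc hCle hCn hodd e
  obtain ⟨M, hM, hMs, -, hMc, hMna⟩ := h.exists_simple hO h2
  have hna : ¬ IsMulCommutative M := by
    intro hc
    apply hMna
    intro x hx y hy
    exact congrArg Subtype.val (hc.is_comm.comm (⟨x, hx⟩ : M) ⟨y, hy⟩)
  have hk := hknown M hMs
  have hCp : ⁅C, C⁆ = C := perfect_of_equiv e (Perf.PL_perfect S' hF)
  have hCM : C ≤ M := perfect_le hM (Schreier.Assembly.known M hna hk) hMc hCp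
  have hSM : (S : Subgroup G) ≤ M := h.S_le.trans hCM
  have hτM : τ ∈ M := hSM hτS
  -- the situation in `M`
  set τ' : M := ⟨τ, hτM⟩ with hτ'
  have hcen : ∀ x : M, x ∈ centralizer ({τ'} : Set M) ↔ (x : G) ∈ centralizer ({τ} : Set G) := by
    intro x
    rw [mem_centralizer_singleton_iff, mem_centralizer_singleton_iff]
    constructor
    · intro h1; exact congrArg Subtype.val h1
    · intro h1; exact Subtype.ext h1
  have hcen' : centralizer ({τ'} : Set M) = (centralizer ({τ} : Set G)).subgroupOf M := by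
    ext x
    rw [hcen, mem_subgroupOf]
  have eC : ↥(C.subgroupOf M) ≃* ↥S'.PL := (subgroupOfEquivOfLe hCM).trans e
  have hn' : ((C.subgroupOf M).subgroupOf (centralizer ({τ'} : Set M))).Normal := by
    constructor
    intro c hc g
    exact h.C_n (g : M) (mem_centralizer_singleton_iff.1 ((hcen _).1 g.2)) _ hc
  have hodd' : Odd ((C.subgroupOf M).relIndex (centralizer ({τ'} : Set M))) := by
    rw [hcen']
    have h1 : (C.subgroupOf M).relIndex ((centralizer ({τ} : Set G)).subgroupOf M) =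
        C.relIndex (centralizer ({τ} : Set G) ⊓ M) := by
      rw [← inf_subgroupOf_right (centralizer ({τ} : Set G)) M, relIndex_subgroupOf inf_le_right]
    rw [h1]
    have h3 : C.relIndex (centralizer ({τ} : Set G) ⊓ M) ∣ C.relIndex (centralizer ({τ} : Set G)) := by
      rw [← relIndex_subgroupOf (inf_le_left : centralizer ({τ} : Set G) ⊓ M ≤ centralizer ({τ} : Set G))]
      exact relIndex_dvd_index_of_normal _ _
    exact hodd.of_dvd_nat h3
  have hg : H762.GHyp τ' (S.subtype hSM) (C.subgroupOf M) m :=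
    { ord := by rw [hτ', Subgroup.orderOf_mk]; exact hτ
      mem := hτS
      comm := fun s hs => Subtype.ext (hτc s hs)
      le := fun x hx => (hcen x).2 (hCle hx)
      norm := hn'
      odd := hodd'
      hyp := H762.chyp_of S' hR hq hU eC }
  obtain ⟨-, ⟨ψ⟩⟩ := hg.main hna hk hK
  -- Sylow subgroups of `M` and their images
  have himg : ∀ (P : Sylow 2 G) (hPM : (P : Subgroup G) ≤ M) (x : M), ((x : G) ∈ (P : Subgroup G)) →
      (∀ u ∈ (P : Subgroup G), u * (x : G) = x * u) → ∃ P' : Sylow 2 ↥(Lie.twistedF4 K (2 ^ m)),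
        ψ x ∈ (P' : Subgroup _) ∧ ∀ u ∈ (P' : Subgroup _), u * ψ x = ψ x * u := by
    intro P hPM x hx hxc
    refine ⟨(P.subtype hPM).mapSurjective (f := ψ.toMonoidHom) ψ.surjective, ?_, ?_⟩
    · exact ⟨x, hx, rfl⟩
    · rintro _ ⟨y, hy, rfl⟩
      change ψ y * ψ x = ψ x * ψ y
      rw [← map_mul, ← map_mul]
      exact congrArg ψ (Subtype.ext (hxc y hy))
  have hψ1 : ∀ {x : M}, (x : G) ≠ 1 → ψ x ≠ 1 := fun {x} hx h1 => hx (by
    have h3 : x = 1 := (MulEquiv.map_eq_one_iff ψ).1 h1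
    rw [h3]; rfl)
  have ht1 : (τ' : G) ≠ 1 := h.t1
  obtain ⟨P1, hP1, hP1c⟩ := himg S hSM τ' hτS hτc
  -- `C = C_M(τ)`
  have hcard : Nat.card ↥(centralizer ({τ'} : Set M)) = Nat.card C := by
    obtain ⟨e1⟩ := H762.PL.exists_equiv S' hU (hψ1 ht1) hP1 hP1c
    have h3 : (centralizer ({τ'} : Set M)).map ψ.toMonoidHom = centralizer ({ψ τ'} : Set _) := by
      ext y
      rw [mem_centralizer_singleton_iff]
      constructor
      · rintro ⟨x, hx, rfl⟩
        change ψ x * ψ τ' = ψ τ' * ψ x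
        rw [← map_mul, ← map_mul, mem_centralizer_singleton_iff.1 hx]
      · intro hy
        refine ⟨ψ.symm y, ?_, ψ.apply_symm_apply y⟩
        refine mem_centralizer_singleton_iff.2 (ψ.injective ?_)
        rw [map_mul, map_mul, ψ.apply_symm_apply, hy]
    have h4 : Nat.card ↥(centralizer ({τ'} : Set M)) = Nat.card ↥(centralizer ({ψ τ'} : Set _)) := by
      rw [← h3, card_map_of_injective (f := ψ.toMonoidHom) ψ.injective]
    rw [h4, Nat.card_congr e1.toEquiv, Nat.card_congr e.toEquiv]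
  have hCeq : centralizer ({τ} : Set G) ⊓ M = C := by
    symm
    apply eq_of_le_of_card_ge (le_inf hCle hCM)
    rw [← hcard, hcen']
    have h3 : Nat.card ↥(((centralizer ({τ} : Set G)).subgroupOf M)) = Nat.card ↥(centralizer ({τ} : Set G) ⊓ M : Subgroup G) := by
      rw [← card_map_of_injective M.subtype_injective, subgroupOf_map_subtype]
    rw [h3]
  -- `G = M C(τ)`
  have hcover : ∀ g : G, ∃ x ∈ M, x⁻¹ * g ∈ centralizer ({τ} : Set G) := by
    intro g
    have hgP : ((g • S : Sylow 2 G) : Subgroup G) ≤ M := by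
      intro x hx
      rw [Sylow.coe_subgroup_smul, Subgroup.mem_pointwise_smul_iff_inv_smul_mem, ← map_inv] at hx
      have h3 : g⁻¹ * x * g⁻¹⁻¹ ∈ M := hSM hx
      have h4 := hM.conj_mem _ h3 g
      have e1 : g * (g⁻¹ * x * g⁻¹⁻¹) * g⁻¹ = x := by group
      rwa [e1] at h4
    have hτg : g * τ * g⁻¹ ∈ M := hM.conj_mem τ hτM g
    obtain ⟨P2, hP2, hP2c⟩ := himg (g • S) hgP ⟨g * τ * g⁻¹, hτg⟩ (by
        rw [Sylow.coe_subgroup_smul, Subgroup.mem_pointwise_smul_iff_inv_smul_mem, ← map_inv]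
        change g⁻¹ * (g * τ * g⁻¹) * g⁻¹⁻¹ ∈ _
        have e1 : g⁻¹ * (g * τ * g⁻¹) * g⁻¹⁻¹ = τ := by group
        rw [e1]; exact hτS) (by
        intro u hu
        rw [Sylow.coe_subgroup_smul, Subgroup.mem_pointwise_smul_iff_inv_smul_mem, ← map_inv] at hu
        have h3 := hτc _ hu
        change g⁻¹ * u * g⁻¹⁻¹ * τ = τ * (g⁻¹ * u * g⁻¹⁻¹) at h3
        calc u * (g * τ * g⁻¹) = g * (g⁻¹ * u * g⁻¹⁻¹ * τ) * g⁻¹ := by group
          _ = g * (τ * (g⁻¹ * u * g⁻¹⁻¹)) * g⁻¹ := by rw [h3]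
          _ = g * τ * g⁻¹ * u := by group)
    obtain ⟨y, hy⟩ := exists_conj S' hU (hψ1 ht1) (hψ1 (x := ⟨g * τ * g⁻¹, hτg⟩) (conj_ne_one h.t1)) hP1 hP1c hP2 hP2c
    have h3 : ψ.symm y * τ' * (ψ.symm y)⁻¹ = ⟨g * τ * g⁻¹, hτg⟩ := by
      apply ψ.injective
      rw [map_mul, map_mul, map_inv, ψ.apply_symm_apply]
      exact hy
    refine ⟨ψ.symm y, (ψ.symm y).2, ?_⟩
    have h4 : ((ψ.symm y : M) : G) * τ * ((ψ.symm y : M) : G)⁻¹ = g * τ * g⁻¹ := congrArg Subtype.val h3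
    rw [mem_centralizer_singleton_iff]
    set x := ((ψ.symm y : M) : G)
    calc x⁻¹ * g * τ = x⁻¹ * (g * τ * g⁻¹) * g := by group
      _ = x⁻¹ * (x * τ * x⁻¹) * g := by rw [h4]
      _ = τ * (x⁻¹ * g) := by group
  refine ⟨M, hM, ?_, ⟨ψ⟩⟩
  have htop : centralizer ({τ} : Set G) ⊔ M = ⊤ := by
    rw [eq_top_iff]
    intro g _
    obtain ⟨x, hx, hxg⟩ := hcover g
    have e1 : g = x * (x⁻¹ * g) := by group
    rw [e1]
    exact mul_mem (mem_sup_right hx) (mem_sup_left hxg)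
  have h3 : M.relIndex (centralizer ({τ} : Set G)) = M.index := by
    rw [← relIndex_top_right, ← htop, relIndex_sup_right, ]
  rw [← h3, ← inf_relIndex_right, inf_comm, hCeq]

end

end Cfsg.Agent.H312.Ree
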