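import Cfsg.Agent.H312.ReeQuot
import Cfsg.Agent.H762.Closed
import Cfsg.Agent.H221.TitsAut
import Cfsg.Agent.H221.SporOut
import Cfsg.Agent.H221.SzInv

/-!
# S3217 for `q = 2` (helper312)

* `small_simple` : `O(G) = O_2(G) = 1` : `G ≅ ²F₄(2)`;
* `small` : `G = O(G) C` or `G ≅ ²F₄(2)`.
-/

set_option autoImplicit false

namespace Cfsg.Agent.H312.Ree

open Cfsg.Agent.SplitTwo Cfsg.Agent.SplitTwo.ZS Cfsg.Agent.TitsThree.RankTwoZ Cfsg.Agent.SplitTwo.RootSysZ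
open Cfsg.Agent.KFacts.TwF4 Cfsg.Agent.KFacts.TwF4.Arc Cfsg.Agent.KFacts.TwF4.Irr
open Subgroup
open scoped commutatorElement Pointwise

universe u

variable {K : Type*} [Field K] [Fintype K]

theorem two_elems (hK : Fintype.card K = 2 ^ (2 * 0 + 1)) (x : K) : x = 0 ∨ x = 1 :=
  H762.two_elems (by rw [Nat.card_eq_fintype_card, hK]) x

/-- **the almost simple case** -/
theorem small_simple {G : Type u} [Group G] [Finite G] {τ : G} {S : Sylow 2 G} {C : Subgroup G}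
    (hK : Fintype.card K = 2 ^ (2 * 0 + 1)) {σ : K →+* K} (S' : Full σ ↥(Lie.twistedF4 K (2 ^ 0)))
    (hR : S'.R.p = 2) (hτ : orderOf τ = 2) (hτS : τ ∈ (S : Subgroup G))
    (hτc : ∀ s ∈ (S : Subgroup G), s * τ = τ * s) (hCle : C ≤ centralizer ({τ} : Set G))
    (hCge : centralizer ({τ} : Set G) ≤ C) (e : ↥C ≃* ↥S'.PL)
    (hknown : ∀ (H : Type u) [Group H] [Finite H], IsSimpleGroup H → IsKnownSimple' H) :
    ∃ Z : Subgroup G, Nat.card Z = 2 ∧ τ ∈ Z ∧ Z ≤ C ∧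
      (Cfsg.oddCore G = ⊥ → Cfsg.pCore 2 G ≠ ⊥ → Z.Normal) ∧
      (Cfsg.oddCore G = ⊥ → Cfsg.pCore 2 G = ⊥ → Nonempty (G ≃* ↥(Lie.twistedF4 K (2 ^ 0)))) := by
  have hfact : Fact (Nat.Prime 2) := ⟨Nat.prime_two⟩
  have hchar := ChevalleyStructure.TwF4.Twisted.charP_two hK
  have hfin : Finite ↥(Lie.twistedF4 K (2 ^ 0)) := inferInstance
  have hU := sylow_U hK S' hR
  have h01 := two_elems hK
  have hCeq : C = centralizer ({τ} : Set G) := le_antisymm hCle hCge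
  have hCn : (C.subgroupOf (centralizer ({τ} : Set G))).Normal := by
    rw [hCeq, subgroupOf_self]; infer_instance
  have hodd : Odd (C.relIndex (centralizer ({τ} : Set G))) := by
    rw [hCeq, relIndex_self]; exact odd_one
  have h := sit_of S' hR hU hτ hτS hτc hCle hCn hodd e
  have k := loc2_of S' hR hU h01 e
  have hC : ∀ g, g * τ = τ * g → g ∈ C := fun g hg => hCge (mem_centralizer_singleton_iff.2 hg)
  refine ⟨tr e (S'.Zc 2), k.cardZ, h.τZ, h.Z_le_C, fun hO h2 => ?_, fun hO h2 => ?_⟩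
  · obtain ⟨E, hEne, hEn, hEZ⟩ := h.exists_E (V := Cfsg.pCore 2 G) (Cfsg.Agent.Lib.Cores.pCore_normal 2)
      (Cfsg.Agent.Lib.Cores.pCore_isPGroup 2) h2
    have h3 : E = tr e (S'.Zc 2) := by
      apply eq_of_le_of_card_ge hEZ
      rw [k.cardZ]
      exact Finite.one_lt_card_iff_nontrivial.2 ((nontrivial_iff_ne_bot E).2 hEne)
    rw [← h3]; exact hEn
  · obtain ⟨M, hM, hMs, hQM, hMc, hMna⟩ := h.exists_simple hO h2
    have hna : ¬ IsMulCommutative M := by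
      intro hc
      apply hMna
      intro x hx y hy
      exact congrArg Subtype.val (hc.is_comm.comm (⟨x, hx⟩ : M) ⟨y, hy⟩)
    have hns := h.not_small k hC hO h2 hM hQM
    obtain ⟨hT, hi⟩ := h.tits k hτ hC hM hMs hna (hknown M hMs) hQM hns
      (fun P t ht htP htc hZ hn hex hH => H762.closed_small hH P ht htP htc hZ hn hex)
      (fun hs h9 h13 h12 => H221.spor_out hM hMc hs h9 h13 h12)
      (fun hs P t ht htt => H221.sz_inv hs P ht htt)
    exact H221.TitsAut.tits_aut hM hMc hT hi 0 rfl hK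

/-- conjugates of `z` in `²F₄(2)` with product conjugate to `z` -/
theorem exists_triple {Γ : Type u} [Group Γ] [Finite Γ] {F : Type*} [Field F] [Finite F] {σ : F →+* F} (S' : Full σ Γ)
    (h01 : ∀ x : F, x = 0 ∨ x = 1) (hU : ∃ P : Sylow 2 Γ, (P : Subgroup Γ) = J S'.XZ 1 8) {z : Γ} (hz : z ≠ 1)
    {P : Sylow 2 Γ} (hzP : z ∈ (P : Subgroup Γ)) (hzc : ∀ u ∈ (P : Subgroup Γ), u * z = z * u) :
    ∃ a b c : Γ, (a * z * a⁻¹) * (b * z * b⁻¹) = c * z * c⁻¹ := by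
  have hone : ∀ x ∈ S'.Zc 2, x ≠ 1 → x = S'.e 2 0 1 := by
    rintro _ ⟨u, rfl⟩ hx
    rcases h01 u with rfl | rfl
    · exact absurd (S'.e_zero 2) hx
    · rfl
  obtain ⟨g, hg⟩ := to_Zc S' hU hzP hzc
  have hg1 := hone _ hg (conj_ne_one hz)
  have hcj : ∀ w ∈ S'.W46, w ≠ 1 → ∃ a, a * z * a⁻¹ = w := by
    intro w hw hw1
    obtain ⟨x, -, hx⟩ := Layers.W46_conj_Z S' hw
    have h1 := hone _ hx (conj_ne_one hw1)
    refine ⟨x⁻¹ * g, ?_⟩
    calc x⁻¹ * g * z * (x⁻¹ * g)⁻¹ = x⁻¹ * (g * z * g⁻¹) * x := by group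
      _ = x⁻¹ * (x * w * x⁻¹) * x := by rw [hg1, h1]
      _ = w := by group
  have w1 : S'.e 2 0 1 ∈ S'.W46 := ⟨1, 0, by rw [S'.e_zero, mul_one]⟩
  have w2 : S'.e 3 0 1 ∈ S'.W46 := ⟨0, 1, by rw [S'.e_zero, one_mul]⟩
  have w3 : S'.e 2 0 1 * S'.e 3 0 1 ∈ S'.W46 := ⟨1, 1, rfl⟩
  have n1 : S'.e 2 0 1 ≠ 1 := fun h1 => one_ne_zero (S'.e_eq_one h1).2
  have n2 : S'.e 3 0 1 ≠ 1 := fun h1 => one_ne_zero (S'.e_eq_one h1).2
  have n3 : S'.e 2 0 1 * S'.e 3 0 1 ≠ 1 := by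
    intro h1
    have h2 : S'.e 2 0 1 = S'.e 3 0 1 := by
      have h3 := eq_inv_of_mul_eq_one_left h1
      rw [e_inv, map_zero, mul_zero, add_zero] at h3
      exact h3
    have m4 : S'.e 2 0 1 ∈ S'.XZ 4 := (mem_X4 S').2 ⟨0, 1, rfl⟩
    have m6 : S'.e 2 0 1 ∈ S'.XZ 6 := by rw [h2]; exact (mem_X6 S').2 ⟨0, 1, rfl⟩
    exact n1 (S'.X_inf_near (i := 4) (j := 6) (by norm_num) (by norm_num) m4 m6)
  obtain ⟨a, ha⟩ := hcj _ w1 n1
  obtain ⟨b, hb⟩ := hcj _ w2 n2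
  obtain ⟨c, hc⟩ := hcj _ w3 n3
  exact ⟨a, b, c, by rw [ha, hb, hc]⟩

/-- **S3217 for `q = 2`** -/
theorem small {G : Type u} [Group G] [Finite G] {τ : G} {S : Sylow 2 G} {C : Subgroup G}
    (hK : Fintype.card K = 2 ^ (2 * 0 + 1)) {σ : K →+* K} (S' : Full σ ↥(Lie.twistedF4 K (2 ^ 0)))
    (hR : S'.R.p = 2) (hτ : orderOf τ = 2) (hτS : τ ∈ (S : Subgroup G))
    (hτc : ∀ s ∈ (S : Subgroup G), s * τ = τ * s) (hCle : C ≤ centralizer ({τ} : Set G))
    (hCn : (C.subgroupOf (centralizer ({τ} : Set G))).Normal)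
    (hodd : Odd (C.relIndex (centralizer ({τ} : Set G)))) (e : ↥C ≃* ↥S'.PL)
    (hO : Cfsg.oddCore ↥(centralizer ({τ} : Set G)) = ⊥)
    (hknown : ∀ (H : Type u) [Group H] [Finite H], IsSimpleGroup H → IsKnownSimple' H) :
    Cfsg.oddCore G ⊔ C = ⊤ ∨ Nonempty (G ≃* ↥(Lie.twistedF4 K (2 ^ 0))) := by
  have hfact : Fact (Nat.Prime 2) := ⟨Nat.prime_two⟩
  have hchar := ChevalleyStructure.TwF4.Twisted.charP_two hK
  have hfin : Finite ↥(Lie.twistedF4 K (2 ^ 0)) := inferInstance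
  have hU := sylow_U hK S' hR
  have h01 := two_elems hK
  have hCge := rho_one S' hR hU h01 hτ hτS hτc hCle hCn hodd e hO
  have hτC : τ ∈ C := hCge (mem_centralizer_singleton_iff.2 rfl)
  have hτ1 : τ ≠ 1 := by
    rintro rfl
    rw [orderOf_one] at hτ
    omega
  have hC : ∀ g, g * τ = τ * g → g ∈ C := fun g hg => hCge (mem_centralizer_singleton_iff.2 hg)
  set N : Subgroup G := Cfsg.oddCore G with hN
  have hNn : N.Normal := Cfsg.Agent.Lib.Cores.pPrimeCore_normal 2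
  have hNodd : Odd (Nat.card N) := Nat.coprime_two_right.1 (Cfsg.Agent.Lib.Cores.pPrimeCore_coprime 2)
  have hfpf : ∀ n ∈ N, n * τ = τ * n → n = 1 := by
    intro n hn hnτ
    have h1 : (N.subgroupOf (centralizer ({τ} : Set G))) ≤ Cfsg.oddCore ↥(centralizer ({τ} : Set G)) := by
      apply Cfsg.Agent.Lib.Cores.le_pPrimeCore inferInstance
      rw [Nat.coprime_two_right]
      have h2 : Nat.card (N.subgroupOf (centralizer ({τ} : Set G))) ∣ Nat.card N := by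
        rw [← card_map_of_injective (centralizer ({τ} : Set G)).subtype_injective, subgroupOf_map_subtype]
        exact card_dvd_of_le inf_le_left
      exact hNodd.of_dvd_nat h2
    have h2 : (⟨n, mem_centralizer_singleton_iff.2 hnτ⟩ : ↥(centralizer ({τ} : Set G))) ∈
        N.subgroupOf (centralizer ({τ} : Set G)) := hn
    have h3 := h1 h2
    rw [hO, mem_bot] at h3
    exact congrArg Subtype.val h3
  have hI : Inv τ N := ⟨by rw [← pow_two, ← hτ, pow_orderOf_eq_one], hNn, hfpf⟩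
  -- the quotient
  set π : G →* G ⧸ N := QuotientGroup.mk' N with hπ
  have hπs : Function.Surjective π := QuotientGroup.mk'_surjective N
  have hπ1 : ∀ x, π x = 1 ↔ x ∈ N := fun x => QuotientGroup.eq_one_iff x
  have hCN : ∀ x ∈ C, x ∈ N → x = 1 := fun x hx hxN => hfpf x hxN (mem_centralizer_singleton_iff.1 (hCle hx))
  have hinj : Function.Injective (π.comp C.subtype) := by
    rw [injective_iff_map_eq_one]
    intro x hx
    exact Subtype.ext (hCN x x.2 ((hπ1 _).1 hx))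
  have hrange : (π.comp C.subtype).range = C.map π := by
    rw [MonoidHom.range_comp, range_subtype]
  have e' : ↥(C.map π) ≃* ↥S'.PL :=
    ((MulEquiv.subgroupCongr hrange).symm.trans (MonoidHom.ofInjective hinj).symm).trans e
  have hτN : τ ∉ N := fun h1 => hτ1 (hCN τ hτC h1)
  have hτ' : orderOf (π τ) = 2 := by
    apply orderOf_eq_prime
    · rw [← map_pow, pow_two, hI.tt, map_one]
    · exact fun h1 => hτN ((hπ1 τ).1 h1)
  have hcge : centralizer ({π τ} : Set (G ⧸ N)) ≤ C.map π := by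
    intro y hy
    obtain ⟨g, rfl⟩ := hπs y
    have h1 := mem_centralizer_singleton_iff.1 hy
    have h2 : g * τ * g⁻¹ * τ⁻¹ ∈ N := by
      rw [← hπ1, map_mul, map_mul, map_mul, map_inv, map_inv, h1]; group
    obtain ⟨n, hn, h3⟩ := hI.cent h2
    refine ⟨n * g, hC _ h3, ?_⟩
    rw [map_mul, (hπ1 n).2 hn, one_mul]
  have hcle : C.map π ≤ centralizer ({π τ} : Set (G ⧸ N)) := by
    rintro _ ⟨c, hc, rfl⟩
    rw [mem_centralizer_singleton_iff, ← map_mul, ← map_mul, mem_centralizer_singleton_iff.1 (hCle hc)]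
  have hτS' : π τ ∈ ((S.mapSurjective hπs : Sylow 2 (G ⧸ N)) : Subgroup (G ⧸ N)) := ⟨τ, hτS, rfl⟩
  have hτc' : ∀ s ∈ ((S.mapSurjective hπs : Sylow 2 (G ⧸ N)) : Subgroup (G ⧸ N)), s * π τ = π τ * s := by
    rintro _ ⟨s, hs, rfl⟩
    change π s * π τ = π τ * π s
    rw [← map_mul, hτc s hs, map_mul]
  have hO' : Cfsg.oddCore (G ⧸ N) = ⊥ := Cfsg.Agent.Lib.Cores.pPrimeCore_quotient_pPrimeCore 2
  obtain ⟨Z, hZ2, hτZ, -, hA, hB⟩ := small_simple hK S' hR hτ' hτS' hτc' hcle hcge e' hknown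
  by_cases h2 : Cfsg.pCore 2 (G ⧸ N) = ⊥
  · -- `G / N ≅ ²F₄(2)`
    right
    obtain ⟨ψ⟩ := hB hO' h2
    have hψ1 : ψ (π τ) ≠ 1 := fun h1 => hτN ((hπ1 τ).1 ((MulEquiv.map_eq_one_iff ψ).1 h1))
    obtain ⟨a, b, c, habc⟩ := exists_triple S' h01 hU hψ1
      (P := (S.mapSurjective hπs : Sylow 2 (G ⧸ N)).mapSurjective (f := ψ.toMonoidHom) ψ.surjective)
      ⟨π τ, hτS', rfl⟩ (by
        rintro _ ⟨y, hy, rfl⟩
        change ψ y * ψ (π τ) = ψ (π τ) * ψ y
        rw [← map_mul, hτc' y hy, map_mul])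
    obtain ⟨a', ha'⟩ := hπs (ψ.symm a)
    obtain ⟨b', hb'⟩ := hπs (ψ.symm b)
    obtain ⟨c', hc'⟩ := hπs (ψ.symm c)
    have hNbot : N = ⊥ := by
      refine hI.trick hNodd (a := a') (b := b') (c := c') ?_
      rw [← hπ1]
      apply ψ.injective
      simp only [map_mul, map_inv, map_one, ha', hb', hc', ψ.apply_symm_apply]
      rw [habc, mul_inv_cancel]
    exact ⟨((QuotientGroup.quotientMulEquivOfEq hNbot).trans QuotientGroup.quotientBot).symm.trans ψ⟩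
  · -- `Z` is normal
    left
    have hZn := hA hO' h2
    have hcen : ∀ y : G ⧸ N, y ∈ C.map π := by
      intro y
      apply hcge
      rw [mem_centralizer_singleton_iff]
      have h3 : y * π τ * y⁻¹ ∈ Z := hZn.conj_mem _ hτZ y
      have h4 : y * π τ * y⁻¹ = π τ := by
        refine Cfsg.Agent.H316.Red.eq_of_card_le_two hZ2.le h3 hτZ (conj_ne_one ?_) ?_
        · exact fun h1 => hτN ((hπ1 τ).1 h1)
        · exact fun h1 => hτN ((hπ1 τ).1 h1)
      exact mul_inv_eq_iff_eq_mul.1 h4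
    rw [eq_top_iff]
    intro g _
    obtain ⟨c, hc, hcg⟩ := hcen (π g)
    have h3 : g * c⁻¹ ∈ N := by
      rw [← hπ1, map_mul, map_inv, hcg, mul_inv_cancel]
    have e1 : g = (g * c⁻¹) * c := by group
    rw [e1]
    exact mul_mem (mem_sup_left h3) (mem_sup_right hc)

end Cfsg.Agent.H312.Ree
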