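import Cfsg.Agent.GH.L2LeafC

/-!
# The 2-component `K` of `C = C(t)` if the 2-elements of `C / O(C)` generate `Z₂ × L`, `L` simple
-/

set_option autoImplicit false
set_option linter.unusedSectionVars false

universe u v

open Cfsg Subgroup
open Cfsg.Agent.Intrinsic.Basic Cfsg.Agent.GH.Defs Cfsg.Agent.GH.Comp
open Cfsg.Agent.GH.L2Frame (fix mem_fix)
open Cfsg.Agent.Walter.SylowIn Cfsg.Agent.Lib
open Cfsg.Agent.GH
open scoped commutatorElement

namespace Cfsg.Agent.H312.Setup

/-- The subgroup generated by the 2-elements. -/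
def twoGen (Q : Type*) [Group Q] : Subgroup Q := closure {x : Q | ∃ k : ℕ, orderOf x = 2 ^ k}

theorem twoGen_normal (Q : Type*) [Group Q] : (twoGen Q).Normal := by
  refine ⟨fun n hn g => ?_⟩
  have h1 : twoGen Q ≤ (twoGen Q).comap (MulAut.conj g).toMonoidHom := by
    unfold twoGen
    rw [closure_le]
    rintro x ⟨k, hk⟩
    apply Subgroup.subset_closure
    refine ⟨k, ?_⟩
    rw [← hk]
    exact orderOf_injective (MulAut.conj g).toMonoidHom (MulAut.conj g).injective x
  exact h1 hn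

theorem mem_twoGen {Q : Type*} [Group Q] {x : Q} {k : ℕ} (h : x ^ 2 ^ k = 1) : x ∈ twoGen Q := by
  obtain ⟨j, -, hj⟩ := (Nat.dvd_prime_pow Nat.prime_two).1 (orderOf_dvd_of_pow_eq_one h)
  exact Subgroup.subset_closure ⟨j, hj⟩

theorem zmod_two : ∀ b : Multiplicative (ZMod 2), b ≠ 1 → ∀ a : Multiplicative (ZMod 2), a = 1 ∨ a = b := by
  decide

theorem zmod_sq : ∀ a : Multiplicative (ZMod 2), a * a = 1 := by decide

section quotient

variable {Q : Type u} [Group Q] {L : Type v} [Group L]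

/-- The simple factor of `Z₂ × L` in `Q`. -/
def fac (e : twoGen Q ≃* Multiplicative (ZMod 2) × L) : Subgroup Q :=
  (((MonoidHom.fst _ _).comp e.toMonoidHom).ker).map (twoGen Q).subtype

theorem mem_fac (e : twoGen Q ≃* Multiplicative (ZMod 2) × L) {x : Q} :
    x ∈ fac e ↔ ∃ h : x ∈ twoGen Q, (e ⟨x, h⟩).1 = 1 := by
  constructor
  · rintro ⟨⟨y, hy⟩, h1, rfl⟩
    exact ⟨hy, h1⟩
  · rintro ⟨h, h1⟩
    exact ⟨⟨x, h⟩, h1, rfl⟩

/-- `fac e ≃* L` -/
noncomputable def facEquiv (e : twoGen Q ≃* Multiplicative (ZMod 2) × L) : fac e ≃* L :=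
  MulEquiv.ofBijective
    (((MonoidHom.snd _ _).comp e.toMonoidHom).comp (inclusion (show fac e ≤ twoGen Q from map_subtype_le _)))
    ⟨by
      rintro ⟨a, ha⟩ ⟨b, hb⟩ hab
      obtain ⟨ha', ha1⟩ := (mem_fac e).1 ha
      obtain ⟨hb', hb1⟩ := (mem_fac e).1 hb
      have h1 : e ⟨a, ha'⟩ = e ⟨b, hb'⟩ := by
        apply Prod.ext
        · rw [ha1, hb1]
        · exact hab
      have h2 : a = b := congrArg Subtype.val (e.injective h1)
      exact Subtype.ext h2,
    by
      intro l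
      refine ⟨⟨(e.symm (1, l) : twoGen Q), (mem_fac e).2 ⟨(e.symm (1, l)).2, ?_⟩⟩, ?_⟩
      · change (e (e.symm (1, l))).1 = 1
        rw [e.apply_symm_apply]
      · change (e (e.symm (1, l))).2 = l
        rw [e.apply_symm_apply]⟩

theorem fac_eq [hL : IsSimpleGroup L] (hn : ¬ ∀ a b : L, a * b = b * a)
    (e : twoGen Q ≃* Multiplicative (ZMod 2) × L) : fac e = ⁅twoGen Q, twoGen Q⁆ := by
  apply le_antisymm
  · have hp : commutator L = ⊤ := by
      rcases (inferInstance : (commutator L).Normal).eq_bot_or_eq_top with h1 | h1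
      · exfalso
        push Not at hn
        obtain ⟨a, b, hab⟩ := hn
        apply hab
        have h2 : a * b * a⁻¹ * b⁻¹ ∈ commutator L :=
          commutator_mem_commutator (mem_top a) (mem_top b)
        rw [h1, mem_bot] at h2
        rw [mul_inv_eq_one, mul_inv_eq_iff_eq_mul] at h2
        exact h2
      · exact h1
    -- the map `L → Q`
    let j : L →* Q := (twoGen Q).subtype.comp (e.symm.toMonoidHom.comp (MonoidHom.inr _ _))
    have h1 : fac e = j.range := by
      ext x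
      rw [mem_fac]
      constructor
      · rintro ⟨hx, h2⟩
        refine ⟨(e ⟨x, hx⟩).2, ?_⟩
        change ((e.symm (1, (e ⟨x, hx⟩).2) : twoGen Q) : Q) = x
        rw [← h2, Prod.mk.eta, e.symm_apply_apply]
      · rintro ⟨l, rfl⟩
        refine ⟨(e.symm (1, l)).2, ?_⟩
        change (e (e.symm (1, l))).1 = 1
        rw [e.apply_symm_apply]
    rw [h1, MonoidHom.range_eq_map, ← hp, commutator_def, map_commutator]
    have h2 : (⊤ : Subgroup L).map j ≤ twoGen Q := by
      rintro _ ⟨l, -, rfl⟩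
      exact (e.symm (1, l)).2
    exact commutator_mono h2 h2
  · rw [commutator_le]
    intro a ha b hb
    rw [mem_fac]
    refine ⟨(commutator_le_self _) (commutator_mem_commutator ha hb), ?_⟩
    have h1 : (⟨⁅a, b⁆, (commutator_le_self _) (commutator_mem_commutator ha hb)⟩ : twoGen Q) =
        ⁅(⟨a, ha⟩ : twoGen Q), (⟨b, hb⟩ : twoGen Q)⁆ := rfl
    rw [h1, map_commutatorElement]
    change ⁅(e ⟨a, ha⟩).1, (e ⟨b, hb⟩).1⁆ = 1
    rw [commutatorElement_eq_one_iff_mul_comm, mul_comm]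

theorem fac_normal [hL : IsSimpleGroup L] (hn : ¬ ∀ a b : L, a * b = b * a)
    (e : twoGen Q ≃* Multiplicative (ZMod 2) × L) : (fac e).Normal := by
  rw [fac_eq hn e]
  have := twoGen_normal Q
  infer_instance

theorem isQuasisimple_of_simple {X : Type*} [Group X] (hs : IsSimpleGroup X)
    (hn : ¬ ∀ a b : X, a * b = b * a) : IsQuasisimple X :=
  Cfsg.Agent.SignalizersComponents.IntrinsicDiag.quasisimple_of_simple hs
    (fun h => hn fun a b => h.is_comm.comm a b)

theorem fac_isComponent [hL : IsSimpleGroup L] (hn : ¬ ∀ a b : L, a * b = b * a)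
    (e : twoGen Q ≃* Multiplicative (ZMod 2) × L) : IsComponent (fac e) := by
  have := fac_normal hn e
  refine ⟨this.isSubnormal, ?_⟩
  exact Cfsg.Agent.SignalizersComponents.PLayerAut.isQuasisimple_of_equiv (facEquiv e).symm
    (isQuasisimple_of_simple hL hn)

theorem center_eq_bot [hL : IsSimpleGroup L] (hn : ¬ ∀ a b : L, a * b = b * a) : center L = ⊥ := by
  rcases (inferInstance : (center L).Normal).eq_bot_or_eq_top with h1 | h1
  · exact h1
  · exfalso
    apply hn
    intro a b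
    exact mem_center_iff.mp (h1 ▸ mem_top b : b ∈ center L) a

/-- Elements of `twoGen Q` commuting with `fac e` are in the factor `Z₂`. -/
theorem snd_eq_one [hL : IsSimpleGroup L] (hn : ¬ ∀ a b : L, a * b = b * a)
    (e : twoGen Q ≃* Multiplicative (ZMod 2) × L) {x : Q} (hx : x ∈ twoGen Q)
    (hc : ∀ y ∈ fac e, x * y = y * x) : (e ⟨x, hx⟩).2 = 1 := by
  rw [← mem_bot, ← center_eq_bot (L := L) hn, mem_center_iff]
  intro l
  have h1 := hc (e.symm (1, l) : twoGen Q) ((mem_fac e).2 ⟨(e.symm (1, l)).2, by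
    change (e (e.symm (1, l))).1 = 1
    rw [e.apply_symm_apply]⟩)
  have h2 : (⟨x, hx⟩ : twoGen Q) * e.symm (1, l) = e.symm (1, l) * ⟨x, hx⟩ := Subtype.ext h1
  have h3 := congrArg (fun y => (e y).2) h2
  simp only [map_mul, e.apply_symm_apply, Prod.snd_mul] at h3
  exact h3.symm

end quotient

variable {G : Type u} [Group G] [Finite G] {L : Type v} [Group L]

/-- **The setup.** -/
theorem exists_comp [hL : IsSimpleGroup L] (hn : ¬ ∀ a b : L, a * b = b * a) {t : G}
    (ht : orderOf t = 2)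
    (e : twoGen (↥(centralizer ({t} : Set G)) ⧸ oddCore ↥(centralizer ({t} : Set G))) ≃*
      Multiplicative (ZMod 2) × L) :
    ∃ K : Subgroup G, IsComp (centralizer ({t} : Set G)) K ∧
      centralizer ({t} : Set G) ≤ normalizer (K : Set G) ∧ Nonempty (Bar K ≃* L) ∧
      ∀ T : Subgroup G, SylIn 2 T (centralizer ({t} : Set G)) →
        (∀ q ∈ T ⊓ fix K, q = 1 ∨ q = t) ∧ ∀ s ∈ T, s ∈ K ∨ t * s ∈ K := by
  classical
  have : Fact (Nat.Prime 2) := ⟨Nat.prime_two⟩
  set H : Subgroup G := centralizer ({t} : Set G) with hH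
  have htt : t * t = 1 := by rw [← pow_two, ← ht, pow_orderOf_eq_one]
  have ht1 : t ≠ 1 := by rintro rfl; simp at ht
  have htH : t ∈ H := mem_centralizer_singleton_iff.2 rfl
  obtain ⟨K₀, hK₀, hK₀m⟩ := PComponents.exists_pcomp (X := ↥H) (p := 2) (fac_isComponent hn e)
  have hmapfac : K₀.map (QuotientGroup.mk' (oddCore ↥H)) = fac e := hK₀m
  have hcomp : IsComp H (K₀.map H.subtype) := isComp_of_subtype hK₀
  have hfn := fac_normal hn e
  have hK₀n : ∀ g : H, g ∈ normalizer (K₀ : Set H) := by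
    intro g
    apply PComponents.mem_normalizer_of_map hK₀
    have h1 : (K₀.map (QuotientGroup.mk' (pPrimeCore 2 ↥H))) = fac e := hK₀m
    rw [h1, normalizer_eq_top_iff.2 hfn]
    exact mem_top _
  have hmemK : ∀ g : H, (g : G) ∈ K₀.map H.subtype ↔ g ∈ K₀ := by
    intro g
    constructor
    · rintro ⟨y, hy, hyg⟩
      rwa [← Subtype.ext hyg]
    · intro hg
      exact ⟨g, hg, rfl⟩
  -- elements of `K O(C)`
  have hfacK : ∀ g : H, (QuotientGroup.mk' (oddCore ↥H)) g ∈ fac e →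
      ∃ k ∈ K₀, ∃ o ∈ oddCore ↥H, g = k * o := by
    intro g hg
    rw [← hmapfac] at hg
    obtain ⟨k, hk, hkg⟩ := hg
    refine ⟨k, hk, k⁻¹ * g, ?_, by group⟩
    have h1 := QuotientGroup.eq.1 hkg
    exact h1
  refine ⟨K₀.map H.subtype, hcomp, ?_, ?_, fun T hT => ⟨?_, ?_⟩⟩
  · intro g hg
    rw [mem_normalizer_iff]
    intro x
    have h1 := mem_normalizer_iff.1 (hK₀n ⟨g, hg⟩)
    constructor
    · rintro ⟨y, hy, rfl⟩
      exact ⟨_, (h1 y).1 hy, rfl⟩
    · rintro ⟨y, hy, hyx⟩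
      have hx : x = g⁻¹ * (y : G) * g := by
        change (y : G) = g * x * g⁻¹ at hyx
        rw [hyx]; group
      have hyH : x ∈ H := by
        rw [hx]
        exact H.mul_mem (H.mul_mem (H.inv_mem hg) y.2) hg
      refine ⟨⟨x, hyH⟩, (h1 ⟨x, hyH⟩).2 ?_, rfl⟩
      have h2 : (⟨g, hg⟩ : H) * ⟨x, hyH⟩ * (⟨g, hg⟩ : H)⁻¹ = y := Subtype.ext hyx.symm
      rw [h2]
      exact hy
  · -- `K / O(K) ≃* L`
    let f : ↥(K₀.map H.subtype) →* ↥H ⧸ oddCore ↥H :=
      (QuotientGroup.mk' (oddCore ↥H)).comp (inclusion hcomp.le)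
    have hker : f.ker = oddCore ↥(K₀.map H.subtype) := by
      ext ⟨k, hk⟩
      rw [MonoidHom.mem_ker]
      change (QuotientGroup.mk' (oddCore ↥H)) ⟨k, hcomp.le hk⟩ = 1 ↔ _
      rw [← MonoidHom.mem_ker, QuotientGroup.ker_mk', ← mem_core_iff (hcomp.le hk),
        ← mem_core_iff hk, hcomp.core_eq]
      exact ⟨fun h => ⟨hk, h⟩, fun h => h.2⟩
    have hran : f.range = fac e := by
      rw [← hmapfac]
      ext y
      constructor
      · rintro ⟨⟨k, hk⟩, rfl⟩
        exact ⟨⟨k, hcomp.le hk⟩, (hmemK _).1 hk, rfl⟩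
      · rintro ⟨k, hk, rfl⟩
        exact ⟨⟨k, (hmemK k).2 hk⟩, rfl⟩
    exact ⟨((QuotientGroup.quotientMulEquivOfEq hker.symm).trans
      (QuotientGroup.quotientKerEquivRange f)).trans ((MulEquiv.subgroupCongr hran).trans
        (facEquiv e))⟩
  all_goals
    have hTtwo : ∀ s (hs : s ∈ T), (QuotientGroup.mk' (oddCore ↥H)) ⟨s, hT.le hs⟩ ∈
        twoGen (↥H ⧸ oddCore ↥H) := by
      intro s hs
      obtain ⟨k, hk⟩ := hT.isPGroup ⟨s, hs⟩
      apply mem_twoGen (k := k)
      rw [← map_pow]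
      have h1 : (⟨s, hT.le hs⟩ : H) ^ 2 ^ k = 1 := by
        apply Subtype.ext
        simpa using congrArg Subtype.val hk
      rw [h1, map_one]
    have hTone : ∀ s (hs : s ∈ T), (⟨s, hT.le hs⟩ : H) ∈ oddCore ↥H → s = 1 := by
      intro s hs h1
      obtain ⟨k, hk⟩ := hT.isPGroup ⟨s, hs⟩
      have h2 : s ∈ core H := (mem_core_iff (hT.le hs)).2 h1
      have h3 : s ^ 2 ^ k = 1 := by simpa using congrArg Subtype.val hk
      exact eq_one_of_mem_core h2 h3
    have htT : t ∈ T := L2Main.mem_sylow_of_central ht hT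
    have htm : ∀ y ∈ fac e, (QuotientGroup.mk' (oddCore ↥H)) ⟨t, htH⟩ * y =
        y * (QuotientGroup.mk' (oddCore ↥H)) ⟨t, htH⟩ := by
      intro y _
      obtain ⟨y, rfl⟩ := QuotientGroup.mk'_surjective _ y
      rw [← map_mul, ← map_mul]
      congr 1
      exact Subtype.ext (mem_centralizer_singleton_iff.1 y.2).symm
    have ht2 := snd_eq_one hn e (hTtwo t htT) htm
    have ht3 : (e ⟨_, hTtwo t htT⟩).1 ≠ 1 := by
      intro h1
      have h2 : e ⟨_, hTtwo t htT⟩ = 1 := Prod.ext h1 ht2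
      rw [map_eq_one_iff e e.injective] at h2
      have h3 := congrArg Subtype.val h2
      have h4 : (QuotientGroup.mk' (oddCore ↥H)) ⟨t, hT.le htT⟩ = 1 := h3
      rw [← MonoidHom.mem_ker, QuotientGroup.ker_mk'] at h4
      exact ht1 (hTone t htT h4)
    have hZ : ∀ a : Multiplicative (ZMod 2), a = 1 ∨ a = (e ⟨_, hTtwo t htT⟩).1 := by
      exact zmod_two _ ht3
  · intro q hq
    obtain ⟨hqT, hqf⟩ := mem_inf.1 hq
    rw [mem_fix] at hqf
    have h1 : ∀ y ∈ fac e, (QuotientGroup.mk' (oddCore ↥H)) ⟨q, hT.le hqT⟩ * y =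
        y * (QuotientGroup.mk' (oddCore ↥H)) ⟨q, hT.le hqT⟩ := by
      intro y hy
      rw [← hmapfac] at hy
      obtain ⟨k, hk, rfl⟩ := hy
      have h2 := hqf.2 k ((hmemK k).2 hk)
      have h3 := hcomp.core_le_core h2
      rw [← commutatorElement_eq_one_iff_mul_comm, ← map_commutatorElement, ← MonoidHom.mem_ker,
        QuotientGroup.ker_mk']
      have h4 : ((⁅(⟨q, hT.le hqT⟩ : H), k⁆ : H) : G) ∈ core H := h3
      exact (mem_core_iff (SetLike.coe_mem _)).1 h4
    have h2 := snd_eq_one hn e (hTtwo q hqT) h1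
    rcases hZ (e ⟨_, hTtwo q hqT⟩).1 with h3 | h3
    · left
      have h4 : e ⟨_, hTtwo q hqT⟩ = 1 := Prod.ext h3 h2
      rw [map_eq_one_iff e e.injective] at h4
      have h5 := congrArg Subtype.val h4
      have h6 : (QuotientGroup.mk' (oddCore ↥H)) ⟨q, hT.le hqT⟩ = 1 := h5
      rw [← MonoidHom.mem_ker, QuotientGroup.ker_mk'] at h6
      exact hTone q hqT h6
    · right
      have h4 : e ⟨_, hTtwo q hqT⟩ = e ⟨_, hTtwo t htT⟩ := Prod.ext h3 (h2.trans ht2.symm)
      have h5 := congrArg Subtype.val (e.injective h4)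
      have h6 : (QuotientGroup.mk' (oddCore ↥H)) ⟨q, hT.le hqT⟩ =
        (QuotientGroup.mk' (oddCore ↥H)) ⟨t, hT.le htT⟩ := h5
      have h7 := QuotientGroup.eq.1 h6
      have h8 : (⟨q⁻¹ * t, hT.le (T.mul_mem (T.inv_mem hqT) htT)⟩ : H) ∈ oddCore ↥H := h7
      have h9 := hTone _ (T.mul_mem (T.inv_mem hqT) htT) h8
      exact (inv_mul_eq_one.1 h9)
  · -- elements of `T ∩ K O(C)` are in `K`
    have hTK : ∀ s (hs : s ∈ T), (QuotientGroup.mk' (oddCore ↥H)) ⟨s, hT.le hs⟩ ∈ fac e →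
        s ∈ K₀.map H.subtype := by
      intro s hs h1
      set K : Subgroup G := K₀.map H.subtype with hKdef
      have hKn : H ≤ normalizer (K : Set G) := by
        intro g hg
        rw [mem_normalizer_iff]
        intro x
        have h1 := mem_normalizer_iff.1 (hK₀n ⟨g, hg⟩)
        constructor
        · rintro ⟨y, hy, rfl⟩
          exact ⟨_, (h1 y).1 hy, rfl⟩
        · rintro ⟨y, hy, hyx⟩
          have hx : x = g⁻¹ * (y : G) * g := by
            change (y : G) = g * x * g⁻¹ at hyx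
            rw [hyx]; group
          have hyH : x ∈ H := by
            rw [hx]
            exact H.mul_mem (H.mul_mem (H.inv_mem hg) y.2) hg
          refine ⟨⟨x, hyH⟩, (h1 ⟨x, hyH⟩).2 ?_, rfl⟩
          have h2 : (⟨g, hg⟩ : H) * ⟨x, hyH⟩ * (⟨g, hg⟩ : H)⁻¹ = y := Subtype.ext hyx.symm
          rw [h2]
          exact hy
      have hcoreH : core H ≤ H := core_le H
      have hcn : ∀ g ∈ K, g ∈ normalizer (core H : Set G) := fun g hg =>
        le_normalizer_core H (hcomp.le hg)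
      set M : Subgroup G := K ⊔ core H with hM
      have hMH : M ≤ H := sup_le hcomp.le hcoreH
      have hsyl := hT.inf hcomp.le hKn
      have h2 : ¬ 2 ∣ (T ⊓ K).relIndex M := by
        rw [← relIndex_mul_relIndex (T ⊓ K) K M inf_le_right le_sup_left]
        rw [Nat.prime_two.dvd_mul]
        rintro (h3 | h3)
        · exact hsyl.not_dvd h3
        · have h4 : K.relIndex M ∣ Nat.card (core H) := by
            rw [hM]
            have h5 := L2Frame.relIndex_sup hcn
            rw [← h5]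
            exact relIndex_dvd_card _ _
          have h6 := odd_card_core H
          rw [← Nat.not_even_iff_odd] at h6
          exact h6 (even_iff_two_dvd.2 (h3.trans h4))
      have h3 : SylIn 2 (T ⊓ K) M :=
        sylIn_of (inf_le_right.trans le_sup_left) (hT.isPGroup.to_le inf_le_left) h2
      have h4 : T ⊓ M = T ⊓ K := h3.eq_of_le (inf_le_inf_left T le_sup_left) inf_le_right
        (hT.isPGroup.to_le inf_le_left)
      have h5 : s ∈ T ⊓ M := by
        refine ⟨hs, ?_⟩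
        obtain ⟨k, hk, o, ho, h6⟩ := hfacK _ h1
        have h7 : s = (k : G) * (o : G) := congrArg Subtype.val h6
        rw [h7]
        exact M.mul_mem (mem_sup_left ⟨k, hk, rfl⟩) (mem_sup_right ⟨o, ho, rfl⟩)
      rw [h4] at h5
      exact h5.2
    intro s hs
    rcases hZ (e ⟨_, hTtwo s hs⟩).1 with h3 | h3
    · left
      exact hTK s hs ((mem_fac e).2 ⟨hTtwo s hs, h3⟩)
    · right
      apply hTK _ (T.mul_mem htT hs)
      refine (mem_fac e).2 ⟨hTtwo _ (T.mul_mem htT hs), ?_⟩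
      have h4 : (⟨_, hTtwo _ (T.mul_mem htT hs)⟩ : twoGen (↥H ⧸ oddCore ↥H)) =
        ⟨_, hTtwo t htT⟩ * ⟨_, hTtwo s hs⟩ := rfl
      rw [h4, map_mul, Prod.fst_mul, h3]
      exact zmod_sq _

end Cfsg.Agent.H312.Setup
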