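import Cfsg.Agent.GH.N2.Main

/-!
# `T = ⟨x⟩ × D₈` with all involutions of `D₈` conjugate: contradiction

`G` simple, `x` an involution, `E` a four-group of `D`, `T ≥ E⟨x⟩` a Sylow 2-subgroup of `C(x)` (see `N2.Base`,
`N2.Syl`), `t ∈ T - E⟨x⟩` an involution conjugate to an involution of `E`: contradiction.
-/

set_option autoImplicit false
set_option linter.unusedSectionVars false

universe u

namespace Cfsg.Agent.H312.TwoEight

open Cfsg.Agent.GH.N2
open Cfsg.Agent.GH.E (rr self_mem_rr le_rr rr_mono Expo phi)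

variable {G : Type u} [Group G] {x h : G} {E T U : Subgroup G}

/-- The transfer argument, `U⟨x, t⟩` a Sylow 2-subgroup. -/
theorem key [Finite G] [IsSimpleGroup G] (hG : ¬ ∀ a b : G, a * b = b * a) (B : Base x E)
    (S : Syl x E T) {t z : G} (ht : t ∈ T) (htF : t ∉ rr x E) (ht2 : t * t = 1) (hz : z ∈ E)
    (htz : IsConj t z) (hEU : E ≤ U) (tU : ∀ s ∈ T, ∀ u ∈ U, s * u * s⁻¹ ∈ U)
    (hcx : ∀ u ∈ U, x * u = u * x → u ∈ E)
    (hnc : ∀ u ∈ U, u * u = 1 → ∀ g : G, g * x * g⁻¹ ≠ u)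
    (hcj : ∀ n ∈ U, n * t * (n * t) = 1 → ∃ w ∈ U, n * t = w * t * w⁻¹)
    (hR : ∃ R : Sylow 2 G, (R : Subgroup G) = U ⊔ T) : False := by
  have hTle : T ≤ U ⊔ T := le_sup_right
  have hUle : U ≤ U ⊔ T := le_sup_left
  have hti : t⁻¹ = t := inv_eq_iff_mul_eq_one.mpr ht2
  have hzz : z * z = 1 := B.sq z hz
  have htU : ∀ u ∈ U, t * u * t⁻¹ ∈ U := fun u hu => tU t ht u hu
  have hmem : ∀ g, g ∈ rr t U ↔ g ∈ U ∨ t * g ∈ U := fun g => Cfsg.Agent.GH.E.mem_rr ht2 htU
  have hcm : ∀ a ∈ U ⊔ T, ∀ b ∈ U ⊔ T, a * b * a⁻¹ * b⁻¹ ∈ U :=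
    sup_comm tU (fun t ht s hs => hEU (S.comm_mem B t ht s hs))
  have hN : rr t U ≤ U ⊔ T := sup_le hUle (by
    rw [Subgroup.zpowers_le]; exact hTle ht)
  have hc := Four.moves B S ht ht2 htF
  obtain ⟨z', a, D⟩ := Swap.exists_dat B S ht ht2 hc
  refine false_of_transfer (N := rr t U) hG hR ?_ ?_ B.hx (hTle S.xT) ?_ ?_
  · intro p hp n hn
    have h1 := hcm p hp n (hN hn)
    have h2 : p * n * p⁻¹ = (p * n * p⁻¹ * n⁻¹) * n := by group
    rw [h2]
    exact Subgroup.mul_mem _ (le_rr t U h1) hn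
  · intro a ha b hb
    exact le_rr t U (hcm a ha b hb)
  · intro hx
    rcases (hmem x).1 hx with h1 | h1
    · exact B.hxE (hcx x h1 rfl)
    · apply htF
      have h2 : t * x ∈ E := hcx _ h1 (by rw [← mul_assoc, S.cx t ht, mul_assoc])
      rw [B.mem_rr]
      right
      rwa [S.cx t ht]
  · intro g hg
    obtain ⟨v, hv⟩ : ∃ v, g * x * g⁻¹ = v := ⟨_, rfl⟩
    have hv2 : v * v = 1 := by rw [← hv]; exact conj_sq_one B g
    rw [hv] at hg ⊢
    -- no conjugate of `x` lies in `rr t U`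
    have hno : v ∉ rr t U := by
      intro hvN
      rcases (hmem v).1 hvN with h1 | h1
      · exact hnc v h1 hv2 g hv
      · obtain ⟨n, hn, hnt⟩ : ∃ n ∈ U, v = n * t := by
          refine ⟨t * (t * v) * t⁻¹, htU _ h1, ?_⟩
          calc v = (t * t) * v := by rw [ht2, one_mul]
            _ = t * (t * v) * t⁻¹ * t := by group
        rw [hnt] at hv2
        obtain ⟨w, hw, hwt⟩ := hcj n hn hv2
        obtain ⟨k, hk⟩ := isConj_iff.1 htz
        refine hnc z (hEU hz) hzz (k * w⁻¹ * g) ?_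
        calc k * w⁻¹ * g * x * (k * w⁻¹ * g)⁻¹ = k * (w⁻¹ * (g * x * g⁻¹) * w) * k⁻¹ := by group
          _ = k * (w⁻¹ * (w * t * w⁻¹) * w) * k⁻¹ := by rw [hv, hnt, hwt]
          _ = k * t * k⁻¹ := by group
          _ = z := hk
    obtain ⟨n, hn, s, hs, rfl⟩ := (mem_sup_of_norm tU).1 hg
    -- `s ∈ E⟨x⟩ ∪ t E⟨x⟩`
    have hxU : ∀ u ∈ U, x * u * x⁻¹ ∈ U := fun u hu => tU x S.xT u hu
    by_cases hsF : s ∈ rr x E
    · rcases B.mem_rr.1 hsF with h1 | h1
      · exact absurd (le_rr t U (U.mul_mem hn (hEU h1))) hno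
      · apply le_rr t U
        have h2 : x * (n * s) = (x * n * x⁻¹) * (x * s) := by group
        rw [h2]
        exact U.mul_mem (hxU n hn) (hEU h1)
    · have h1 := D.mul_mem ht hs htF hsF
      rcases B.mem_rr.1 h1 with h2 | h2
      · exfalso
        apply hno
        rw [hmem]
        right
        have h3 : t * (n * s) = (t * n * t⁻¹) * (t * s) := by group
        rw [h3]
        exact U.mul_mem (htU n hn) (hEU h2)
      · rw [hmem]
        right
        have h3 : t * (x * (n * s)) = (t * (x * n * x⁻¹) * t⁻¹) * (x * (t * s)) := by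
          have h4 := S.cx t ht
          calc t * (x * (n * s)) = t * (x * n * x⁻¹) * t⁻¹ * ((t * x) * s) := by group
            _ = t * (x * n * x⁻¹) * t⁻¹ * ((x * t) * s) := by rw [h4]
            _ = (t * (x * n * x⁻¹) * t⁻¹) * (x * (t * s)) := by group
        rw [h3]
        exact U.mul_mem (htU _ (hxU n hn)) (hEU h2)

/-- Involutions of `U t`, `U` of level 1, are conjugate to `t`. -/
theorem conj_level [Finite G] (B : Base x E) (S : Syl x E T) (L : Level x E U h) (X : Expo U 1)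
    (tU : ∀ s ∈ T, ∀ u ∈ U, s * u * s⁻¹ ∈ U) {t : G} (ht : t ∈ T) (htF : t ∉ rr x E)
    (ht2 : t * t = 1) {n : G} (hn : n ∈ U) (h1 : n * t * (n * t) = 1) :
    ∃ w ∈ U, n * t = w * t * w⁻¹ := by
  obtain ⟨e0, he0, hne⟩ := S.moves B ht htF
  have hti : t⁻¹ = t := inv_eq_iff_mul_eq_one.mpr ht2
  have hf0 := S.nE t ht e0 he0
  have htU : ∀ u ∈ U, t * u * t⁻¹ ∈ U := fun u hu => tU t ht u hu
  have hsq : ∀ u ∈ U, u * u ∈ E := fun u hu => by
    have := L.pi_mem X hu
    rwa [pow_one, pow_two] at this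
  obtain ⟨a, ha, hae⟩ := L.pi_surj B X he0
  rw [pow_one, pow_two] at hae
  have htt : ∀ g : G, t * (t * g * t⁻¹) * t⁻¹ = g := by
    intro g
    calc t * (t * g * t⁻¹) * t⁻¹ = (t * t) * g * (t * t)⁻¹ := by group
      _ = g := by rw [ht2]; group
  -- the cocycle condition
  have hco : ∀ m : G, m * t * (m * t) = 1 ↔ m * (t * m * t⁻¹) = 1 := by
    intro m
    have : m * t * (m * t) = m * (t * m * t⁻¹) * (t * t) := by group
    rw [this, ht2, mul_one]
  have h2 := (hco n).1 h1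
  -- the fixed points on `E`
  have hfixE : ∀ f ∈ E, f * (t * f * t⁻¹) = 1 → ∃ e ∈ E, f = e * (t * e⁻¹ * t⁻¹) := by
    intro f hf h3
    have h4 : t * f * t⁻¹ = f := by
      rw [← B.inv_eq hf]
      rw [B.inv_eq hf]
      have := eq_inv_of_mul_eq_one_right h3
      rw [B.inv_eq hf] at this
      exact this
    rcases B.fix_cases he0 hf0 hne hf h4 with h5 | h5
    · exact ⟨1, E.one_mem, by rw [h5]; group⟩
    · refine ⟨e0, he0, ?_⟩
      rw [h5, B.inv_eq he0]
  have hcommU := L.comm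
  -- `n² ∈ {1, z}`
  have hnn : n * n * (t * (n * n) * t⁻¹) = 1 := by
    have h3 : t * (n * n) * t⁻¹ = (t * n * t⁻¹) * (t * n * t⁻¹) := by group
    have h4 := hcommU n hn _ (htU n hn)
    rw [h3]
    calc n * n * (t * n * t⁻¹ * (t * n * t⁻¹)) = n * (n * (t * n * t⁻¹)) * (t * n * t⁻¹) := by group
      _ = 1 := by rw [h2, mul_one, h2]
  have hfix2 : t * (n * n) * t⁻¹ = n * n := by
    have := eq_inv_of_mul_eq_one_right hnn
    rw [this, B.inv_eq (hsq n hn)]
  have hfin : ∀ m ∈ U, (∃ w ∈ U, m = w * (t * w⁻¹ * t⁻¹)) → ∀ f ∈ E, n = m * f →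
      ∃ w ∈ U, n * t = w * t * w⁻¹ := by
    rintro m hm ⟨w, hw, hmw⟩ f hf hnmf
    have hmm : m * (t * m * t⁻¹) = 1 := by
      have h5 : t * m * t⁻¹ = (t * w * t⁻¹) * w⁻¹ := by
        rw [hmw]
        calc t * (w * (t * w⁻¹ * t⁻¹)) * t⁻¹ = (t * w * t⁻¹) * (t * (t * w⁻¹ * t⁻¹) * t⁻¹) := by group
          _ = (t * w * t⁻¹) * w⁻¹ := by rw [htt]
      rw [h5, hmw]
      have h6 : t * w⁻¹ * t⁻¹ = (t * w * t⁻¹)⁻¹ := by group
      rw [h6]
      group
    have hff : f * (t * f * t⁻¹) = 1 := by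
      have h5 : n * (t * n * t⁻¹) = (m * (t * m * t⁻¹)) * (f * (t * f * t⁻¹)) := by
        have h6 := hcommU f (L.le hf) _ (htU m hm)
        calc n * (t * n * t⁻¹) = m * (f * (t * m * t⁻¹)) * (t * f * t⁻¹) := by rw [hnmf]; group
          _ = m * ((t * m * t⁻¹) * f) * (t * f * t⁻¹) := by rw [h6]
          _ = (m * (t * m * t⁻¹)) * (f * (t * f * t⁻¹)) := by group
      rw [h2, hmm, one_mul] at h5
      exact h5.symm
    obtain ⟨e, he, hfe⟩ := hfixE f hf hff
    refine ⟨w * e, U.mul_mem hw (L.le he), ?_⟩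
    have h7 : t * w⁻¹ * t⁻¹ ∈ U := htU _ (U.inv_mem hw)
    have h8 := hcommU e (L.le he) _ h7
    calc n * t = w * ((t * w⁻¹ * t⁻¹) * e) * (t * e⁻¹ * t⁻¹) * t := by rw [hnmf, hmw, hfe]; group
      _ = w * (e * (t * w⁻¹ * t⁻¹)) * (t * e⁻¹ * t⁻¹) * t := by rw [h8]
      _ = w * e * (t * (w⁻¹ * e⁻¹) * t⁻¹) * t := by group
      _ = w * e * (t * (e⁻¹ * w⁻¹) * t⁻¹) * t := by
        rw [hcommU _ (U.inv_mem hw) _ (U.inv_mem (L.le he))]
      _ = w * e * t * (w * e)⁻¹ := by group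
  rcases B.fix_cases he0 hf0 hne (hsq n hn) hfix2 with h5 | h5
  · -- `n ∈ E`
    have hnE := L.omega n hn h5
    exact hfin 1 U.one_mem ⟨1, U.one_mem, by group⟩ n hnE (one_mul n).symm
  · -- `n² = z = (a b⁻¹)²`
    have hb : t * a * t⁻¹ ∈ U := htU a ha
    have hbi : t * a⁻¹ * t⁻¹ ∈ U := htU _ (U.inv_mem ha)
    set m := a * (t * a⁻¹ * t⁻¹) with hm
    have hmU : m ∈ U := U.mul_mem ha hbi
    have hmm : m * m = e0 * (t * e0 * t⁻¹) := by
      have h6 := hcommU a ha _ hbi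
      calc m * m = a * ((t * a⁻¹ * t⁻¹) * a) * (t * a⁻¹ * t⁻¹) := by rw [hm]; group
        _ = a * (a * (t * a⁻¹ * t⁻¹)) * (t * a⁻¹ * t⁻¹) := by rw [h6]
        _ = (a * a) * (t * (a * a)⁻¹ * t⁻¹) := by group
        _ = e0 * (t * e0 * t⁻¹) := by rw [hae, B.inv_eq he0]
    have hf : m⁻¹ * n ∈ E := by
      apply L.omega _ (U.mul_mem (U.inv_mem hmU) hn)
      have h6 := hcommU n hn _ (U.inv_mem hmU)
      calc m⁻¹ * n * (m⁻¹ * n) = m⁻¹ * (n * m⁻¹) * n := by group
        _ = m⁻¹ * (m⁻¹ * n) * n := by rw [h6]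
        _ = (m * m)⁻¹ * (n * n) := by group
        _ = 1 := by rw [hmm, h5]; group
    exact hfin m hmU ⟨a, ha, hm⟩ _ hf (by group)

/-- **`T = ⟨x⟩ × D₈`**: an involution `t ∈ T - E⟨x⟩` is not conjugate to an element of `E`. -/
theorem false_of_conj [Finite G] [IsSimpleGroup G] (hG : ¬ ∀ a b : G, a * b = b * a) (B : Base x E)
    (S : Syl x E T) (hx : h * x = x * h) (hE : ∀ e ∈ E, h * e * h⁻¹ ∈ E)
    (h3 : ∀ e ∈ E, e ≠ 1 → h * e * h⁻¹ ≠ e) {t z : G} (ht : t ∈ T) (htF : t ∉ rr x E)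
    (ht2 : t * t = 1) (hz : z ∈ E) (htz : IsConj t z) : False := by
  have L : Level x E E h := B.level hx hE h3
  have hT : ¬ ∃ R : Sylow 2 G, (R : Subgroup G) = T := by
    intro hT
    apply htF
    rw [← S.eq_of_sylow hG B hT]
    exact ht
  -- levels `k ≥ 1`
  have hlev : ∀ (U : Subgroup G) (h : G), Level x E U h → (∀ t ∈ T, ∀ u ∈ U, t * u * t⁻¹ ∈ U) →
      (∃ w ∈ U, w ∉ E) → False := by
    intro U h LU tU hUE
    obtain ⟨U', h', L', X', tU', R, hR⟩ := exists_of_level hG B S ht htF _ U h le_rfl LU tU hUE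
    refine key hG B S ht htF ht2 hz htz L'.le tU' ?_ ?_ ?_ ⟨R, hR⟩
    · intro u hu hxu
      apply L'.omega u hu
      have h4 := L'.inv u hu
      rw [hxu, mul_inv_cancel_right] at h4
      rw [← mul_inv_cancel u, ← h4]
    · intro u hu huu g
      exact L'.not_conj_E B X' (by omega) (L'.omega u hu huu) g
    · intro n hn h4
      exact conj_level B S L' X' tU' ht htF ht2 hn h4
  obtain ⟨s, hs, hs1⟩ := exists_mover hG B S L hT
  have X : Expo E 0 := Expo.of_base B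
  obtain ⟨P, h', A, _⟩ := exists_stp B S L X S.nE hs (by
    unfold phi; rw [pow_zero, pow_one]; exact hs1)
  obtain ⟨V, hV⟩ := A.exists_V B X
  have AV : VV x E T E P V h' := ⟨A, hV⟩
  by_cases hd : ∃ y ∈ V, y ∉ E ∧ x * y * x⁻¹ = y⁻¹
  · obtain ⟨y, hy, hyU, hyx⟩ := hd
    have LV := AV.level_of_inv B X hy hyU hyx
    exact hlev V h' LV (fun t ht v hv => AV.nT B S X ht hv) ⟨y, hy, hyU⟩
  · push Not at hd
    have hel := AV.el B S X hd ht htF
    have hR := Four.exists_sylow hG B S ht htF ht2 hel.card hel.sq hel.le hel.nx (hel.nT t ht) hel.cx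
    refine key hG B S ht htF ht2 hz htz hel.le hel.nT hel.cx ?_ ?_ hR
    · intro u hu huu g
      have hpg : IsPGroup 2 V := IsPGroup.of_card (n := 4) (by rw [hel.card]; norm_num)
      exact B.not_conj_of_abel hpg (fun p hp q hq => hel.comm hp hq) (by rw [hel.card]; norm_num)
        (fun q hq => hel.comm hu hq) g
    · intro n hn h4
      have hc := Four.moves B S ht ht2 htF
      obtain ⟨z', a, D⟩ := Swap.exists_dat B S ht ht2 hc
      have t0z : t * z' = z' * t := by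
        have h := D.t0z
        rwa [mul_inv_eq_iff_eq_mul] at h
      have W : Four.VV x t z' V := by
        refine ⟨hel.sq, hel.card, B.hx, ht2, S.cx t ht, hel.nx, hel.nT t ht, hel.le D.zE, D.z1,
          B.comm z' D.zE, t0z, ?_⟩
        intro u hu h1 h2
        rcases D.cases (hel.cx u hu h1) with h | h | h | h
        · exact Or.inl h
        · exfalso
          have h3 := D.t0a
          rw [← h, h2, mul_inv_cancel_right] at h3
          exact D.z1 (left_eq_mul.1 h3)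
        · exact Or.inr h
        · exfalso
          have h3 : t * (a * z') * t⁻¹ = a := by
            calc t * (a * z') * t⁻¹ = (t * a * t⁻¹) * (t * z' * t⁻¹) := by group
              _ = a * (z' * z') := by rw [D.t0a, D.t0z]; group
              _ = a := by rw [D.zz, mul_one]
          rw [← h, h2, mul_inv_cancel_right, h] at h3
          exact D.z1 (mul_eq_left.1 h3)
      obtain ⟨w, hw, hw1⟩ := W.frt.conj (u := n * t) (by
        show n * t * t⁻¹ ∈ V
        rw [mul_inv_cancel_right]; exact hn) h4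
      exact ⟨w, hw, hw1⟩

end Cfsg.Agent.H312.TwoEight
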